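import Groth.Agent.ResProp.EF.K454.KosModel

/-!
# `TorGE` for an `OpCpx` isomorphic to a truncated Koszul complex
-/

set_option autoImplicit false
set_option backward.defeqAttrib.useBackward true
set_option backward.isDefEq.respectTransparency false

universe u

open CategoryTheory CategoryTheory.Limits CategoryTheory.Idempotents

namespace Groth.Agent.ResProp.EF.K454

open Groth.Agent.ResProp.EF.K734
open Groth.Agent.ResProp.EF.K224.Kos (KA FilE mem_FilE)
open Groth.Agent.ResProp.EF.K294 Groth.Agent.ResProp.EF.K980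

variable {R P : Type u} [CommRing R] [CommRing P] [Algebra R P] {e : ℕ} {F : K734.MFil P} {G : MFilM F (Fin e → P)}
  {w : Module.Dual P (Fin e → P)} {hw : ∀ b v, v ∈ G.G b → w v ∈ F.F b} {k : ℕ}

/-- an `OpCpx` whose total module is that of `kozFD` -/
theorem torGE_opGr (X : OpCpx.{u} R) (he : X.e = e) (Φ : X.K ≃ₗ[R] (kozFD (R := R) F G w hw k).K)
    (hd : ∀ v, Φ (X.d v) = (kozFD (R := R) F G w hw k).op none (Φ v))
    (hp : ∀ (i : Fin (X.e + 1)) (v : X.K), Φ (X.pr i v) = (kozFD (R := R) F G w hw k).op (some i) (Φ v))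
    {a : ℤ} (h : TorGE a (kozGr R F G w hw k).cx) : TorGE a (opGr X).cx := by
  refine GrObj.torGE_iso (GrObj.isoOfEquiv (G := opGr X) (G' := kozGr R F G w hw k) Φ hd (fun n v => ?_)).symm h
  have h1 : ∀ v : X.K, Φ (opP X n v) = ((filA F G (k + 1)).mapQ (filA F G (k + 1)) (zp P (Fin e → P) n)
      (fun z hz => zp_mem' F G (k + 1) n z hz)) (Φ v) := by
    intro v
    rcases opP_cases X n with ⟨i, hi, hn⟩ | hn
    · rw [opP_of X hi hn]
      change Φ (X.pr ⟨i, hi⟩ v) = _
      rw [hp]
      obtain ⟨z, hz⟩ := (filA F G (k + 1)).mkQ_surjective (Φ v)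
      rw [← hz]
      subst hn
      change (filA F G (k + 1)).mkQ (kproj i z) = (filA F G (k + 1)).mkQ (zp P (Fin e → P) (-(i : ℤ)) z)
      rw [zp_neg]
    · rw [opP_zero X hn, LinearMap.zero_apply, map_zero]
      obtain ⟨z, hz⟩ := (filA F G (k + 1)).mkQ_surjective (Φ v)
      rw [← hz]
      change 0 = (filA F G (k + 1)).mkQ (zp P (Fin e → P) n z)
      rw [zp_eq_zero (by omega) z, map_zero]
  exact h1 v

end Groth.Agent.ResProp.EF.K454
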