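import Groth.Agent.ResProp.EF.K454.GrSes
import Groth.Agent.ResProp.EF.Arch

/-!
# Comparison of `chartCx` (Arch) with the complex of a total module
-/

set_option autoImplicit false
set_option backward.defeqAttrib.useBackward true
set_option backward.isDefEq.respectTransparency false

universe u

open CategoryTheory CategoryTheory.Limits CategoryTheory.Idempotents Opposite

namespace Groth.Agent.ResProp.EF.K454

open Groth.Agent.ResProp.EF.K294

section

variable {R : Type u} [CommRing R] (G : GrObj (ModuleCat.{u} R)) (N : ℤ → Type u) [∀ n, AddCommGroup (N n)]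
  [∀ n, Module R (N n)] (δ : ∀ n, N n →ₗ[R] N (n + 1)) (dd : ∀ n (x : N n), δ (n + 1) (δ n x) = 0)

/-- the complex of a sequence of modules -/
def cxOf : CM R := CochainComplex.of (fun n => ModuleCat.of R (N n)) (fun n => ModuleCat.ofHom (δ n)) (fun n => by
  apply ModuleCat.hom_ext
  exact LinearMap.ext (dd n))

variable {N δ} (j : ∀ n, N n →ₗ[R] G.K) (hinj : ∀ n, Function.Injective (j n))
  (hrange : ∀ n z, (∃ x, j n x = z) ↔ (G.p n).hom z = z) (hd : ∀ n x, j (n + 1) (δ n x) = G.d.hom (j n x))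

/-- degree `n` parts -/
noncomputable def cxOfX (n : ℤ) : N n ≃ₗ[R] G.X n :=
  LinearEquiv.ofBijective ((G.π n).hom ∘ₗ j n) (by
    constructor
    · intro x y hxy
      apply hinj n
      have h1 := congrArg (G.ι n).hom hxy
      change (G.ι n).hom ((G.π n).hom (j n x)) = (G.ι n).hom ((G.π n).hom (j n y)) at h1
      rw [GrObj.ι_π_apply, GrObj.ι_π_apply, (hrange n _).1 ⟨x, rfl⟩, (hrange n _).1 ⟨y, rfl⟩] at h1
      exact h1
    · intro y
      obtain ⟨x, hx⟩ := (hrange n ((G.ι n).hom y)).2 (G.p_ι_apply n y)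
      refine ⟨x, ?_⟩
      change (G.π n).hom (j n x) = y
      rw [hx, GrObj.π_ι_apply])

theorem cxOfX_ι (n : ℤ) (x : N n) : (G.ι n).hom (cxOfX G j hinj hrange n x) = j n x := by
  change (G.ι n).hom ((G.π n).hom (j n x)) = _
  rw [GrObj.ι_π_apply, (hrange n _).1 ⟨x, rfl⟩]

/-- the comparison isomorphism -/
noncomputable def cxOfIso : cxOf N δ dd ≅ G.cx :=
  HomologicalComplex.Hom.isoOfComponents (fun n => (cxOfX G j hinj hrange n).toModuleIso) (by
    intro n n' hn
    obtain rfl : n + 1 = n' := hn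
    have h1 : (cxOf N δ dd).d n (n + 1) = ModuleCat.ofHom (δ n) :=
      CochainComplex.of_d (fun n => ModuleCat.of R (N n)) (fun n => ModuleCat.ofHom (δ n)) n
    rw [h1, G.cx_d n]
    apply ModuleCat.hom_ext
    apply LinearMap.ext
    intro x
    apply G.ι_inj (n + 1)
    change (G.ι (n + 1)).hom ((G.δ n).hom (cxOfX G j hinj hrange n x)) =
      (G.ι (n + 1)).hom (cxOfX G j hinj hrange (n + 1) (δ n x))
    rw [GrObj.δ_apply, cxOfX_ι, cxOfX_ι, hd])

include hinj hrange hd in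
/-- `TorGE` of the complex of the degree parts -/
theorem torGE_cxOf {a : ℤ} (h : TorGE a G.cx) : TorGE a (cxOf N δ dd) :=
  h.of_iso (cxOfIso G dd j hinj hrange hd).symm

end

section

open EF56 Groth.Agent.ResProp.EF.Arch Groth.Agent.ResProp.EF.Grp

variable {k : Type u} [CommRing k] {A : NFᵒᵖ ⥤ CommRingCat.{u}} [GRF k A] {E : Gp k} {P : Type u} [CommRing P]
  [Algebra (A.obj (op ⟨0⟩)) P]

/-- **`KernelDatum.tor`** from the total module: `j n : K n⟨0⟩ → G.K` injective with image the degree `n` part. -/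
theorem torGE_chartCx (K : ℤ → SObj k A E P) (d : ∀ n : ℤ, (K n).Hom (K (n + 1)))
    (dd : ∀ (n : ℤ) (m : (K n).M.obj ⟨0⟩), (d (n + 1)).f ⟨0⟩ ((d n).f ⟨0⟩ m) = 0)
    (G : GrObj (ModuleCat.{u} (A.obj (op ⟨0⟩)))) (j : ∀ n, (K n).M.obj ⟨0⟩ →ₗ[A.obj (op ⟨0⟩)] G.K)
    (hinj : ∀ n, Function.Injective (j n)) (hrange : ∀ n z, (∃ x, j n x = z) ↔ (G.p n).hom z = z)
    (hd : ∀ n x, j (n + 1) ((d n).f ⟨0⟩ x) = G.d.hom (j n x)) {a : ℤ} (h : TorGE a G.cx) :
    TorGE a (chartCx K d dd) :=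
  torGE_cxOf (R := A.obj (op ⟨0⟩)) G (N := fun n => (K n).M.obj ⟨0⟩) (δ := fun n => (d n).f ⟨0⟩) dd j hinj hrange hd h

end

end Groth.Agent.ResProp.EF.K454
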