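import Groth.Agent.ResProp.EF.K454.OpTor
import Groth.Agent.ResProp.EF.K454.CxOf
import Groth.Agent.ResProp.EF.K980.Nodes

/-!
# The `tor` half of `OpCpx.Amp` (K980/Nodes)
-/

set_option autoImplicit false
set_option backward.defeqAttrib.useBackward true
set_option backward.isDefEq.respectTransparency false

universe u v w

open CategoryTheory CategoryTheory.Limits CategoryTheory.Idempotents

namespace Groth.Agent.ResProp.EF.K454

open Groth.Agent.ResProp.EF.K734 Groth.Agent.ResProp.EF.K294 Groth.Agent.ResProp.EF.K980 Groth.Agent.ResProp.EF.K863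

section

variable {R : Type u} [CommRing R] (X : OpCpx.{u} R)

theorem opP_eq_prz (n : ℤ) (v : X.K) : opP X n v = X.prz n v := by
  by_cases h : n < -(X.e : ℤ) ∨ 0 < n
  · rw [X.prz_of_not n h, opP_zero X (by omega)]
    rfl
  · obtain ⟨i, hi⟩ : ∃ i : ℕ, n = -(i : ℤ) := ⟨(-n).toNat, by omega⟩
    have h1 : i < X.e + 1 := by omega
    rw [opP_of X h1 hi, hi]
    exact congrArg (fun f : X.K →ₗ[X.Q] X.K => f v) (X.prz_neg ⟨i, h1⟩).symm

/-- the complex `cpx` of K980/Nodes has the Tor-amplitude of the total module -/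
theorem torGE_cpx {a : ℤ} (h : TorGE a (opGr X).cx) : TorGE a X.cpx := by
  refine torGE_cxOf (R := R) (opGr X) (N := fun n => X.deg n) (δ := fun n => (X.dn n).restrictScalars R) X.dn_dn
    (fun n => (X.deg n).subtype.restrictScalars R) (fun n => Subtype.val_injective) (fun n z => ?_) (fun n x => rfl) h
  constructor
  · rintro ⟨⟨_, v, rfl⟩, rfl⟩
    change opP X n (X.prz n v) = X.prz n v
    rw [← opP_eq_prz, opP_idem]
  · intro hz
    exact ⟨⟨z, z, (opP_eq_prz X n z).symm.trans hz⟩, rfl⟩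

end

variable {R P : Type u} [CommRing R] [CommRing P] [Algebra R P] {e : ℕ} {F : K734.MFil P} {G : MFilM F (Fin e → P)}
  {w : Module.Dual P (Fin e → P)} {hw : ∀ b v, v ∈ G.G b → w v ∈ F.F b} {k : ℕ}

/-- **the `tor` field of `OpCpx.Amp`** for an `OpCpx` whose total module is that of `kozFD` -/
theorem tor_of_kozFD (X : OpCpx.{u} R) (he : X.e = e) (Φ : X.K ≃ₗ[R] (kozFD (R := R) F G w hw k).K)
    (hd : ∀ v, Φ (X.d v) = (kozFD (R := R) F G w hw k).op none (Φ v))
    (hp : ∀ (i : Fin (X.e + 1)) (v : X.K), Φ (X.pr i v) = (kozFD (R := R) F G w hw k).op (some i) (Φ v))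
    (h : TorGE (-e : ℤ) (kozGr R F G w hw k).cx) : TorGE (-X.e : ℤ) X.cpx := by
  have h1 := torGE_cpx X (torGE_opGr X he Φ hd hp h)
  rw [he]
  exact h1

end Groth.Agent.ResProp.EF.K454
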