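import Groth.Agent.ResProp.EF.K454.KosQ
import Groth.Agent.ResProp.EF.K863.Quot
import Groth.Agent.ResProp.EF.K980.Alg

/-!
# 4.1 for a model (Q6): `k₀` and the Tor-amplitude of the truncated Koszul complex over `R`

Also `opGr`: the total module of an `OpCpx` (K980/Alg) as a `GrObj`, and the transport of `TorGE`.
-/

set_option autoImplicit false
set_option backward.defeqAttrib.useBackward true
set_option backward.isDefEq.respectTransparency false

universe u v w

open CategoryTheory CategoryTheory.Limits CategoryTheory.Idempotents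

namespace Groth.Agent.ResProp.EF.K454

open Groth.Agent.ResProp.EF.K734 Groth.Agent.ResProp.EF.K863
open Groth.Agent.ResProp.EF.K224.Kos (KA FilE mem_FilE)
open Groth.Agent.ResProp.EF.K294

section model

variable {R : Type u} [CommRing R] {D : Type v} [CommRing D] [Algebra R D] {V : Type w} [AddCommGroup V] [Module D V]
  {ρ : V →ₗ[D] Ω[D⁄R]} (m : Model R D V ρ)

/-- the filtration of the polynomial ring of a model -/
noncomputable def mfP : K734.MFil m.PP := ⟨m.Fil, m.Fil_zero, m.Fil_succ_le, fun _ _ _ _ hx hy => m.mul_mem_Fil hx hy⟩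

/-- the filtration of `m.Q N` -/
noncomputable def mfQ (N : ℕ) : K734.MFil (m.Q N) := ⟨m.FilQ N, m.FilQ_zero N, fun n => m.FilQ_antitone N (Nat.le_succ n),
  fun p q _ _ hx hy => m.FilQ_mul_le N p q (Ideal.mul_mem_mul hx hy)⟩

/-- `u` generates the graded pieces of weight `1` and `2` ==> all graded pieces -/
theorem gen_all {e : ℕ} (wt : Fin e → ℕ) (h1 : ∀ i, 1 ≤ wt i) (h2 : ∀ i, wt i ≤ 2) (u : Fin e → m.PP)
    (hg : ∀ n, n = 1 ∨ n = 2 → ∀ x ∈ m.Fil n, ∃ b : Fin e → m.PP, (∀ j, b j ∈ m.Fil (n - wt j)) ∧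
      x - ∑ j, u j * b j ∈ m.Fil (n + 1)) :
    ∀ n, 1 ≤ n → ∀ x ∈ m.Fil n, ∃ b : Fin e → m.PP, (∀ j, b j ∈ m.Fil (n - wt j)) ∧
      x - ∑ j, u j * b j ∈ m.Fil (n + 1) := by
  intro n hn
  -- the ideal of the elements with the property
  let I : Ideal m.PP :=
    { carrier := {x | ∃ b : Fin e → m.PP, (∀ j, b j ∈ m.Fil (n - wt j)) ∧ x - ∑ j, u j * b j ∈ m.Fil (n + 1)}
      zero_mem' := ⟨0, fun j => zero_mem _, by simp⟩
      add_mem' := by
        rintro x y ⟨b, hb, hb'⟩ ⟨c, hc, hc'⟩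
        refine ⟨b + c, fun j => add_mem (hb j) (hc j), ?_⟩
        have : x + y - ∑ j, u j * (b + c) j = (x - ∑ j, u j * b j) + (y - ∑ j, u j * c j) := by
          simp only [Pi.add_apply, mul_add, Finset.sum_add_distrib]; ring
        rw [this]
        exact add_mem hb' hc'
      smul_mem' := by
        rintro a x ⟨b, hb, hb'⟩
        refine ⟨fun j => a * b j, fun j => Ideal.mul_mem_left _ _ (hb j), ?_⟩
        have : a • x - ∑ j, u j * (a * b j) = a * (x - ∑ j, u j * b j) := by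
          rw [smul_eq_mul, mul_sub, Finset.mul_sum]
          congr 1
          exact Finset.sum_congr rfl fun j _ => by ring
        rw [this]
        exact Ideal.mul_mem_left _ _ hb' }
  -- products
  have hprod : ∀ n₁ n₂ : ℕ, n₁ = 1 ∨ n₁ = 2 → n ≤ n₁ + n₂ → ∀ y ∈ m.Fil n₁, ∀ z ∈ m.Fil n₂, y * z ∈ I := by
    intro n₁ n₂ h12 hnn y hy z hz
    obtain ⟨b, hb, hb'⟩ := hg n₁ h12 y hy
    refine ⟨fun j => b j * z, fun j => ?_, ?_⟩
    · have := m.mul_mem_Fil (hb j) hz
      refine m.Fil_antitone ?_ this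
      have := h1 j; have := h2 j
      omega
    · have : y * z - ∑ j, u j * (b j * z) = (y - ∑ j, u j * b j) * z := by
        rw [sub_mul, Finset.sum_mul]
        congr 1
        exact Finset.sum_congr rfl fun j _ => by ring
      rw [this]
      exact m.Fil_antitone (by omega) (m.mul_mem_Fil hb' hz)
  have hle : m.Fil n ≤ I := by
    refine m.Fil_le fun a b hab => ?_
    rcases Nat.eq_zero_or_pos a with rfl | ha
    · obtain ⟨b', rfl⟩ : ∃ b', b = b' + 1 := ⟨b - 1, by omega⟩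
      rw [pow_zero, one_mul, pow_succ', Ideal.mul_le]
      intro y hy z hz
      exact hprod 2 (2 * b') (Or.inr rfl) (by omega) y (by rw [m.Fil_two]; exact hy) z (m.J2_pow_le_Fil b' hz)
    · obtain ⟨a', rfl⟩ : ∃ a', a = a' + 1 := ⟨a - 1, by omega⟩
      rw [pow_succ', mul_assoc, Ideal.mul_le]
      intro y hy z hz
      exact hprod 1 (a' + 2 * b) (Or.inl rfl) (by omega) y (by rw [m.Fil_one]; exact hy) z (m.le_Fil le_rfl hz)
  exact fun x hx => hle hx

theorem wtFil_eq {P : Type u} [CommRing P] (F : K734.MFil P) {e : ℕ} (wt : Fin e → ℕ) (b : ℕ) :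
    (wtFil F wt).G b = FilE F.F wt b := rfl

theorem dualOf_single {P : Type u} [CommRing P] {e : ℕ} (u : Fin e → P) (j : Fin e) : dualOf u (Pi.single j 1) = u j := by
  rw [dualOf_apply, Finset.sum_eq_single j]
  · simp
  · intro i _ hi
    rw [Pi.single_eq_of_ne hi, zero_mul]
  · intro h
    exact absurd (Finset.mem_univ j) h

/-- `k₀` and the Tor-amplitude of the truncated Koszul complex over a quotient of `P` by an ideal in `Fil (k+1)`. -/
theorem KosHyp.exists_k0_torGE {R P : Type u} [CommRing R] [CommRing P] [Algebra R P] [IsNoetherianRing P]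
    [Module.Flat R P] {e : ℕ} {F : K734.MFil P} {wt : Fin e → ℕ} {u : Fin e → P} {J J2 : Ideal P}
    (hu : ∀ i, u i ∈ F.F (wt i)) (hK : KosHyp F wt (wtFil F wt) (dualOf u) J J2) :
    ∃ k₀ : ℕ, ∀ k, k₀ ≤ k → ∀ (P' : Type u) [CommRing P'] [Algebra R P'] [Algebra P P'] [IsScalarTower R P P']
      (F' : K734.MFil P') (u' : Fin e → P') (_ : ∀ i, algebraMap P P' (u i) = u' i)
      (_ : ∀ n, n ≤ k + 1 → ∀ x, algebraMap P P' x ∈ F'.F n ↔ x ∈ F.F n) (_ : Function.Surjective (algebraMap P P'))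
      (hu' : ∀ i, u' i ∈ F'.F (wt i)),
      TorGE (-e : ℤ) (kozGr R F' (wtFil F' wt) (dualOf u') (dualOf_mem F' wt hu') k).cx := by
  obtain ⟨k₀, hk₀⟩ := hK.exists_k0
  refine ⟨k₀, fun k hk P' _ _ _ _ F' u' huu hFF hs hu' => ?_⟩
  have h3 := torGE_kosQuot (R := R) hK k (fun n hn => hk₀ n (by omega))
  have h4 : TorGE (-e : ℤ) ((kosQuot (dualOf u) (filA F (wtFil F wt) (k + 1)) (hK.kd_mem (k + 1))
      (fun n => zp_mem F (wtFil F wt) (k + 1) n)).mapG (ModuleCat.restrictScalars (algebraMap R P))).cx :=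
    h3.of_iso (GrObj.mapCxIso _ _)
  have h5 := GrObj.torGE_iso (kozGrRes R F (wtFil F wt) (dualOf u) (dualOf_mem _ wt hu) k
    (hK.kd_mem (k + 1)) (fun n => zp_mem F (wtFil F wt) (k + 1) n)) h4
  refine GrObj.torGE_iso (kozGrIso (R := R) (P := P) (P' := P') (w := wt) (fun b => rfl) (fun b => rfl) k
    hFF hs (fun v => ?_) (dualOf_mem _ wt hu) (dualOf_mem _ wt hu')) h5
  rw [dualOf_apply, dualOf_apply, map_sum]
  refine Finset.sum_congr rfl fun i _ => ?_
  rw [map_mul, huu]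

/-- the Koszul hypotheses for a model -/
theorem kosHyp_model {e : ℕ} (wt : Fin e → ℕ) (h1 : ∀ i, 1 ≤ wt i) (h2 : ∀ i, wt i ≤ 2)
    (u : Fin e → m.PP) (hu : ∀ i, u i ∈ m.Fil (wt i))
    (hg : ∀ n, n = 1 ∨ n = 2 → ∀ x ∈ m.Fil n, ∃ b : Fin e → m.PP, (∀ j, b j ∈ m.Fil (n - wt j)) ∧
      x - ∑ j, u j * b j ∈ m.Fil (n + 1)) :
    KosHyp (mfP m) wt (wtFil (mfP m) wt) (dualOf u) m.J m.J2 :=
  { h21 := m.J2_le_J
    hJ := (m.Fil_one).ge
    hJ2 := (m.Fil_two).ge
    hgen := fun n => le_rfl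
    hG := fun b => rfl
    hφ := dualOf_mem _ wt hu
    hu := fun n hn r hr => by
      obtain ⟨b, hb, hb'⟩ := gen_all m wt h1 h2 u hg n hn r hr
      refine ⟨b, hb, ?_⟩
      simp only [dualOf_single]
      exact hb' }

/-- **(Q6)** `k₀` and the Tor-amplitude of the truncated Koszul complex over the truncated ring of a model. -/
theorem exists_k0_torGE [IsNoetherianRing R] {e : ℕ} (wt : Fin e → ℕ) (h1 : ∀ i, 1 ≤ wt i) (h2 : ∀ i, wt i ≤ 2)
    (u : Fin e → m.PP) (hu : ∀ i, u i ∈ m.Fil (wt i))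
    (hg : ∀ n, n = 1 ∨ n = 2 → ∀ x ∈ m.Fil n, ∃ b : Fin e → m.PP, (∀ j, b j ∈ m.Fil (n - wt j)) ∧
      x - ∑ j, u j * b j ∈ m.Fil (n + 1)) :
    ∃ k₀ : ℕ, ∀ k, k₀ ≤ k → ∀ huQ : ∀ i, Ideal.Quotient.mk (m.Fil (k + 1)) (u i) ∈ (mfQ m (k + 1)).F (wt i),
      TorGE (-e : ℤ) (kozGr R (mfQ m (k + 1)) (wtFil (mfQ m (k + 1)) wt)
        (dualOf (fun i => Ideal.Quotient.mk (m.Fil (k + 1)) (u i))) (dualOf_mem _ wt huQ) k).cx := by
  have hN : IsNoetherianRing m.PP := inferInstance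
  have hfl : Module.Flat R m.PP := inferInstance
  obtain ⟨k₀, hk₀⟩ := (kosHyp_model m wt h1 h2 u hu hg).exists_k0_torGE (R := R) hu
  refine ⟨k₀, fun k hk huQ => ?_⟩
  exact hk₀ k hk (m.Q (k + 1)) (mfQ m (k + 1)) _ (fun i => rfl) (fun n hn x => m.mk_mem_FilQ hn)
    Ideal.Quotient.mk_surjective huQ

end model

section opGr

open Groth.Agent.ResProp.EF.K980

variable {R : Type u} [CommRing R] (X : OpCpx.{u} R)

/-- the projection of an `OpCpx` to the cohomological degree `n` -/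
def opP (n : ℤ) : X.K →ₗ[R] X.K :=
  if h : n ≤ 0 ∧ (-n).toNat < X.e + 1 then (X.pr ⟨(-n).toNat, h.2⟩).restrictScalars R else 0

theorem opP_of {n : ℤ} {i : ℕ} (hi : i < X.e + 1) (hn : n = -(i : ℤ)) : opP X n = (X.pr ⟨i, hi⟩).restrictScalars R := by
  subst hn
  have h : -(i : ℤ) ≤ 0 ∧ (-(-(i : ℤ))).toNat < X.e + 1 := ⟨by omega, by rw [neg_neg, Int.toNat_natCast]; exact hi⟩
  rw [opP, dif_pos h]
  congr 2
  exact Fin.ext (by simp)

theorem opP_zero {n : ℤ} (hn : ¬ (n ≤ 0 ∧ (-n).toNat < X.e + 1)) : opP X n = 0 := dif_neg hn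

theorem opP_cases (n : ℤ) : (∃ (i : ℕ) (_ : i < X.e + 1), n = -(i : ℤ)) ∨ ¬ (n ≤ 0 ∧ (-n).toNat < X.e + 1) := by
  by_cases h : n ≤ 0 ∧ (-n).toNat < X.e + 1
  · exact Or.inl ⟨(-n).toNat, h.2, by omega⟩
  · exact Or.inr h

/-- the last column: `pr_e ∘ d = 0` -/
theorem pr_last_d (v : X.K) : X.pr (Fin.last X.e) (X.d v) = 0 := by
  have h1 : X.d v = ∑ i, X.d (X.pr i v) := by
    rw [← map_sum, X.pr_sum]
  rw [h1, map_sum]
  refine Finset.sum_eq_zero fun i _ => ?_
  induction i using Fin.cases with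
  | zero => rw [X.d_pr_zero, map_zero]
  | succ i =>
    rw [X.d_pr]
    have := X.pr_orth (Fin.last X.e) i.castSucc (by
      intro h
      have := congrArg Fin.val h
      simp at this
      omega)
    exact congrArg (fun f : X.K →ₗ[X.Q] X.K => f (X.d v)) this

theorem opP_idem (n : ℤ) (z : X.K) : opP X n (opP X n z) = opP X n z := by
  rcases opP_cases X n with ⟨i, hi, hn⟩ | hn
  · rw [opP_of X hi hn]
    exact congrArg (fun f : X.K →ₗ[X.Q] X.K => f z) (X.pr_idem ⟨i, hi⟩)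
  · rw [opP_zero X hn]
    rfl

theorem opP_comm (n : ℤ) (z : X.K) : X.d (opP X n z) = opP X (n + 1) (X.d z) := by
  rcases opP_cases X n with ⟨i, hi, hn⟩ | hn
  · rw [opP_of X hi hn]
    rcases Nat.eq_zero_or_pos i with rfl | hpos
    · rw [opP_zero X (n := n + 1) (by omega)]
      exact X.d_pr_zero z
    · obtain ⟨j, rfl⟩ : ∃ j, i = j + 1 := ⟨i - 1, by omega⟩
      rw [opP_of X (i := j) (by omega) (by push_cast at hn; omega)]
      exact X.d_pr ⟨j, by omega⟩ z
  · rw [opP_zero X hn, LinearMap.zero_apply, map_zero]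
    by_cases h : n + 1 ≤ 0 ∧ (-(n + 1)).toNat < X.e + 1
    · -- `n + 1 = -e`
      have h2 : n + 1 = -((X.e : ℕ) : ℤ) := by omega
      rw [opP_of X (i := X.e) (by omega) h2]
      exact (pr_last_d X z).symm
    · rw [opP_zero X h]
      rfl

/-- the total module of an `OpCpx` -/
def opGr : GrObj (ModuleCat.{u} R) where
  K := ModuleCat.of R X.K
  d := ModuleCat.ofHom (X.d.restrictScalars R)
  p n := ModuleCat.ofHom (opP X n)
  idem n := by
    apply ModuleCat.hom_ext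
    apply LinearMap.ext
    exact opP_idem X n
  comm n := by
    apply ModuleCat.hom_ext
    apply LinearMap.ext
    exact opP_comm X n
  dd := by
    apply ModuleCat.hom_ext
    apply LinearMap.ext
    exact X.d_d

end opGr

end Groth.Agent.ResProp.EF.K454
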