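import Mathlib.CategoryTheory.Idempotents.Basic
import Mathlib.CategoryTheory.Abelian.Basic
import Mathlib.Algebra.Homology.Additive
import Mathlib.Algebra.Homology.ShortComplex.ModuleCat
import Mathlib.Algebra.Homology.HomologicalComplexAbelian
import Mathlib.Algebra.Homology.ShortComplex.HomologicalComplex
import Mathlib.Algebra.Category.ModuleCat.Abelian
import Mathlib.Tactic.LinearCombination

/-!
# From total objects to cochain complexes

`GrObj C`: an object `K` with an endomorphism `d`, `d² = 0`, and idempotents `p i` (`i : ℤ`), `p i ≫ d = d ≫ p (i+1)`.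
`GrObj.cx G : CochainComplex C ℤ`, `X i` = splitting of `p i`.
-/

set_option autoImplicit false
set_option backward.defeqAttrib.useBackward true
set_option backward.isDefEq.respectTransparency false

universe v u v' u'

open CategoryTheory CategoryTheory.Limits CategoryTheory.Idempotents

namespace Groth.Agent.ResProp.EF.K454

/-- a "total object" with differential and projections to the degrees -/
structure GrObj (C : Type u) [Category.{v} C] [Preadditive C] where
  K : C
  d : K ⟶ K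
  p : ℤ → (K ⟶ K)
  idem : ∀ i, p i ≫ p i = p i
  comm : ∀ i, p i ≫ d = d ≫ p (i + 1)
  dd : d ≫ d = 0

namespace GrObj

section

variable {C : Type u} [Category.{v} C] [Preadditive C]

/-- morphisms: commute with `d` and all `p i` -/
@[ext]
structure Hom (G G' : GrObj C) where
  f : G.K ⟶ G'.K
  hd : G.d ≫ f = f ≫ G'.d
  hp : ∀ i, G.p i ≫ f = f ≫ G'.p i

instance : Category (GrObj C) where
  Hom G G' := Hom G G'
  id G := ⟨𝟙 _, by simp, fun i => by simp⟩
  comp a b := ⟨a.f ≫ b.f, by rw [reassoc_of% a.hd, b.hd, Category.assoc], fun i => by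
    rw [reassoc_of% (a.hp i), b.hp i, Category.assoc]⟩
  id_comp a := by ext; simp
  comp_id a := by ext; simp
  assoc a b c := by ext; simp

@[simp] theorem id_f (G : GrObj C) : Hom.f (𝟙 G) = 𝟙 G.K := rfl
@[simp] theorem comp_f {G G' G'' : GrObj C} (a : G ⟶ G') (b : G' ⟶ G'') : Hom.f (a ≫ b) = Hom.f a ≫ Hom.f b := rfl

variable [IsIdempotentComplete C]

section obj

variable (G : GrObj C)

/-- the degree `i` part -/
noncomputable def X (i : ℤ) : C := (IsIdempotentComplete.idempotents_split G.K (G.p i) (G.idem i)).choose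

noncomputable def ι (i : ℤ) : G.X i ⟶ G.K :=
  (IsIdempotentComplete.idempotents_split G.K (G.p i) (G.idem i)).choose_spec.choose

noncomputable def π (i : ℤ) : G.K ⟶ G.X i :=
  (IsIdempotentComplete.idempotents_split G.K (G.p i) (G.idem i)).choose_spec.choose_spec.choose

@[reassoc (attr := simp)]
theorem ι_π (i : ℤ) : G.ι i ≫ G.π i = 𝟙 _ :=
  (IsIdempotentComplete.idempotents_split G.K (G.p i) (G.idem i)).choose_spec.choose_spec.choose_spec.1

@[reassoc (attr := simp)]
theorem π_ι (i : ℤ) : G.π i ≫ G.ι i = G.p i :=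
  (IsIdempotentComplete.idempotents_split G.K (G.p i) (G.idem i)).choose_spec.choose_spec.choose_spec.2

@[reassoc (attr := simp)]
theorem ι_p (i : ℤ) : G.ι i ≫ G.p i = G.ι i := by
  rw [← π_ι, ι_π_assoc]

@[reassoc (attr := simp)]
theorem p_π (i : ℤ) : G.p i ≫ G.π i = G.π i := by
  rw [← π_ι, Category.assoc, ι_π, Category.comp_id]

/-- the differential `X i ⟶ X (i+1)` -/
noncomputable def δ (i : ℤ) : G.X i ⟶ G.X (i + 1) := G.ι i ≫ G.d ≫ G.π (i + 1)

@[reassoc]
theorem δ_ι (i : ℤ) : G.δ i ≫ G.ι (i + 1) = G.ι i ≫ G.d := by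
  rw [δ, Category.assoc, Category.assoc, π_ι, ← G.comm i, ι_p_assoc]

@[reassoc]
theorem π_δ (i : ℤ) : G.π i ≫ G.δ i = G.d ≫ G.π (i + 1) := by
  rw [δ, π_ι_assoc, reassoc_of% G.comm i, p_π]

theorem δ_δ (i : ℤ) : G.δ i ≫ G.δ (i + 1) = 0 := by
  rw [δ, Category.assoc, Category.assoc, π_δ, reassoc_of% G.dd, zero_comp, comp_zero]

/-- the cochain complex -/
noncomputable def cx : CochainComplex C ℤ := CochainComplex.of G.X G.δ G.δ_δ

@[simp] theorem cx_X (i : ℤ) : G.cx.X i = G.X i := rfl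

theorem cx_d (i : ℤ) : G.cx.d i (i + 1) = G.δ i := CochainComplex.of_d _ _ _

end obj

variable {G G' G'' : GrObj C}

/-- the map on degree `i` parts -/
noncomputable def mapX (a : G ⟶ G') (i : ℤ) : G.X i ⟶ G'.X i := G.ι i ≫ Hom.f a ≫ G'.π i

@[reassoc]
theorem mapX_ι (a : G ⟶ G') (i : ℤ) : mapX a i ≫ G'.ι i = G.ι i ≫ Hom.f a := by
  rw [mapX, Category.assoc, Category.assoc, π_ι, ← Hom.hp a i, ι_p_assoc]

@[reassoc]
theorem π_mapX (a : G ⟶ G') (i : ℤ) : G.π i ≫ mapX a i = Hom.f a ≫ G'.π i := by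
  rw [mapX, π_ι_assoc, reassoc_of% Hom.hp a i, p_π]

/-- the chain map -/
noncomputable def cxMap (a : G ⟶ G') : G.cx ⟶ G'.cx where
  f i := mapX a i
  comm' i j hij := by
    obtain rfl : i + 1 = j := hij
    rw [cx_d, cx_d]
    change mapX a i ≫ G'.δ i = G.δ i ≫ mapX a (i + 1)
    rw [δ, mapX_ι_assoc, ← reassoc_of% Hom.hd a, ← π_mapX, δ]
    simp only [Category.assoc]

@[simp] theorem cxMap_f (a : G ⟶ G') (i : ℤ) : (cxMap a).f i = mapX a i := rfl

variable (C) in
/-- `GrObj C ⥤ CochainComplex C ℤ` -/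
noncomputable def cxFunctor : GrObj C ⥤ CochainComplex C ℤ where
  obj G := G.cx
  map a := cxMap a
  map_id G := by
    ext i
    change G.ι i ≫ 𝟙 _ ≫ G.π i = 𝟙 _
    simp
  map_comp {G G' G''} a b := by
    ext i
    change G.ι i ≫ (Hom.f a ≫ Hom.f b) ≫ G''.π i = mapX a i ≫ mapX b i
    conv_rhs => rw [mapX, Category.assoc, Category.assoc, π_mapX]
    simp only [Category.assoc]

end

section functor

variable {C : Type u} [Category.{v} C] [Preadditive C] {D : Type u'} [Category.{v'} D] [Preadditive D]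

/-- the image of a total object under an additive functor -/
@[simps]
def mapG (F : C ⥤ D) [F.Additive] (G : GrObj C) : GrObj D where
  K := F.obj G.K
  d := F.map G.d
  p i := F.map (G.p i)
  idem i := by rw [← F.map_comp, G.idem]
  comm i := by rw [← F.map_comp, ← F.map_comp, G.comm]
  dd := by rw [← F.map_comp, G.dd, F.map_zero]

variable [IsIdempotentComplete C] [IsIdempotentComplete D]

/-- `F(cx G) = cx (F G)` -/
noncomputable def mapCxIso (F : C ⥤ D) [F.Additive] (G : GrObj C) :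
    (F.mapHomologicalComplex (ComplexShape.up ℤ)).obj G.cx ≅ (G.mapG F).cx :=
  HomologicalComplex.Hom.isoOfComponents
    (fun i => { hom := F.map (G.ι i) ≫ (G.mapG F).π i
                inv := (G.mapG F).ι i ≫ F.map (G.π i)
                hom_inv_id := by
                  rw [Category.assoc, π_ι_assoc, mapG_p, ← F.map_comp, ← F.map_comp, p_π, ι_π]
                  exact F.map_id (G.X i)
                inv_hom_id := by
                  rw [Category.assoc, ← F.map_comp_assoc, π_ι]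
                  have : F.map (G.p i) = (G.mapG F).p i := rfl
                  rw [this, p_π, ι_π]; rfl })
    (fun i j hij => by
      obtain rfl : i + 1 = j := hij
      rw [cx_d]
      change (F.map (G.ι i) ≫ (G.mapG F).π i) ≫ (G.mapG F).δ i = F.map (G.cx.d i (i + 1)) ≫ F.map (G.ι (i + 1)) ≫ (G.mapG F).π (i + 1)
      rw [cx_d, Category.assoc, π_δ, ← F.map_comp_assoc, δ_ι, F.map_comp, Category.assoc]
      rfl)

end functor

section module

variable {R : Type u} [Ring R] (G : GrObj (ModuleCat.{v} R))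

theorem ι_inj (i : ℤ) : Function.Injective (G.ι i).hom := by
  intro x y hxy
  have h := fun x => congrArg (fun f : G.X i ⟶ G.X i => f.hom x) (G.ι_π i)
  have h1 := h x
  have h2 := h y
  change (G.π i).hom ((G.ι i).hom x) = x at h1
  change (G.π i).hom ((G.ι i).hom y) = y at h2
  rw [← h1, ← h2, hxy]

theorem range_ι (i : ℤ) (z : G.K) : (∃ x, (G.ι i).hom x = z) ↔ (G.p i).hom z = z := by
  constructor
  · rintro ⟨x, rfl⟩
    exact congrArg (fun f : G.X i ⟶ G.K => f.hom x) (G.ι_p i)
  · intro h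
    refine ⟨(G.π i).hom z, ?_⟩
    have h1 : (G.ι i).hom ((G.π i).hom z) = (G.p i).hom z := congrArg (fun f : G.K ⟶ G.K => f.hom z) (G.π_ι i)
    rw [h1, h]

theorem δ_apply (i : ℤ) (x : G.X i) : (G.ι (i + 1)).hom ((G.δ i).hom x) = G.d.hom ((G.ι i).hom x) :=
  congrArg (fun f : G.X i ⟶ G.K => f.hom x) (G.δ_ι i)

/-- elementwise exactness -/
theorem exactAt_cx_iff (i : ℤ) : G.cx.ExactAt (i + 1) ↔
    ∀ z : G.K, (G.p (i + 1)).hom z = z → G.d.hom z = 0 → ∃ y : G.K, (G.p i).hom y = y ∧ G.d.hom y = z := by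
  rw [HomologicalComplex.exactAt_iff' _ i (i + 1) (i + 1 + 1) (by simp) (by simp),
    CategoryTheory.ShortComplex.moduleCat_exact_iff]
  have hf : (G.cx.sc' i (i + 1) (i + 1 + 1)).f = G.δ i := G.cx_d i
  have hg : (G.cx.sc' i (i + 1) (i + 1 + 1)).g = G.δ (i + 1) := G.cx_d (i + 1)
  rw [hf, hg]
  constructor
  · intro h z hz hdz
    obtain ⟨x, rfl⟩ := (G.range_ι (i + 1) z).2 hz
    obtain ⟨y, hy⟩ := h x (G.ι_inj _ (by
      change (G.ι (i + 1 + 1)).hom ((G.δ (i + 1)).hom x) = (G.ι (i + 1 + 1)).hom 0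
      rw [δ_apply, hdz, map_zero]))
    refine ⟨(G.ι i).hom y, (G.range_ι i _).1 ⟨y, rfl⟩, ?_⟩
    rw [← δ_apply]
    exact congrArg _ hy
  · intro h x hx
    obtain ⟨y, hy1, hy2⟩ := h ((G.ι (i + 1)).hom x) ((G.range_ι _ _).1 ⟨x, rfl⟩) (by
      rw [← δ_apply]
      have : (G.δ (i + 1)).hom x = 0 := hx
      rw [this, map_zero])
    obtain ⟨y', rfl⟩ := (G.range_ι i y).2 hy1
    refine ⟨y', G.ι_inj _ ?_⟩
    change (G.ι (i + 1)).hom ((G.δ i).hom y') = _
    rw [δ_apply, hy2]

end module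

end GrObj

end Groth.Agent.ResProp.EF.K454
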