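import Mathlib.RingTheory.Filtration
import Mathlib.RingTheory.Flat.Localization
import Mathlib.RingTheory.Localization.Ideal
import Mathlib.RingTheory.Localization.AtPrime.Basic
import Mathlib.RingTheory.Polynomial.Basic
import Mathlib.Tactic.LinearCombination
import Mathlib.Tactic.Abel

/-!
# Artin–Rees + Krull, and the localization at `1 + J`

`exact_of_graded`: on a filtered complex of f.g. modules over a Noetherian ring whose filtration is finer than the powers of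
an ideal `J` in the Jacobson radical, exactness of the graded pieces from `n₀` on implies exactness of `F n₀`.
-/

set_option autoImplicit false

namespace Groth.Agent.ResProp.EF.K454

section AK

variable {S : Type*} [CommRing S] [IsNoetherianRing S] (J : Ideal S)

/-- Krull: `⨅ (L ⊔ J^c N) = L` for `L ≤ N`, `J ≤` Jacobson radical. -/
theorem krull_sup {M : Type*} [AddCommGroup M] [Module S M] [Module.Finite S M] (hJ : J ≤ Ideal.jacobson ⊥)
    (L : Submodule S M) (z : M) (h : ∀ c : ℕ, z ∈ L ⊔ J ^ c • (⊤ : Submodule S M)) : z ∈ L := by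
  have h1 : L.mkQ z ∈ (⨅ i : ℕ, J ^ i • ⊤ : Submodule S (M ⧸ L)) := by
    rw [Submodule.mem_iInf]
    intro c
    have h2 := Submodule.mem_map_of_mem (f := L.mkQ) (h c)
    rw [Submodule.map_sup, Submodule.map_smul'', Submodule.map_top, Submodule.range_mkQ,
      Submodule.mkQ_map_self, bot_sup_eq] at h2
    exact h2
  rw [Ideal.iInf_pow_smul_eq_bot_of_le_jacobson J hJ] at h1
  exact (Submodule.Quotient.mk_eq_zero L).1 (by simpa using h1)

/-- LEMMA AK: a filtered complex `M₁ → M₂ → M₃` of f.g. modules, `F₂ n ≤ J^c(n) M₂`, `c(n) → ∞`; if the graded pieces are exact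
from `n₀` on then so is `F n₀`. -/
theorem exact_of_graded {M₁ M₂ M₃ : Type*} [AddCommGroup M₁] [Module S M₁] [AddCommGroup M₂] [Module S M₂]
    [Module.Finite S M₂] [AddCommGroup M₃] [Module S M₃] (hJ : J ≤ Ideal.jacobson ⊥)
    (f : M₁ →ₗ[S] M₂) (g : M₂ →ₗ[S] M₃) (hgf : ∀ y, g (f y) = 0)
    (F₁ : ℕ → Submodule S M₁) (F₂ : ℕ → Submodule S M₂) (n₀ : ℕ) (h₁ : ∀ n, n₀ ≤ n → F₁ n ≤ F₁ n₀)
    (hc : ∀ c : ℕ, ∃ n, n₀ ≤ n ∧ F₂ n ≤ J ^ c • (⊤ : Submodule S M₂))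
    (h : ∀ n, n₀ ≤ n → ∀ z ∈ F₂ n, g z = 0 → ∃ y ∈ F₁ n, z - f y ∈ F₂ (n + 1)) :
    ∀ z ∈ F₂ n₀, g z = 0 → ∃ y ∈ F₁ n₀, f y = z := by
  intro z hz hgz
  -- iterate
  have h2 : ∀ m, ∃ y ∈ F₁ n₀, z - f y ∈ F₂ (n₀ + m) := by
    intro m
    induction m with
    | zero => exact ⟨0, zero_mem _, by simpa using hz⟩
    | succ m ih =>
      obtain ⟨y, hy, hy'⟩ := ih
      obtain ⟨y', hy1, hy2⟩ := h (n₀ + m) (Nat.le_add_right _ _) (z - f y) hy' (by rw [map_sub, hgz, hgf, sub_zero])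
      refine ⟨y + y', add_mem hy (h₁ _ (Nat.le_add_right _ _) hy1), ?_⟩
      rw [map_add, ← sub_sub]
      exact hy2
  obtain ⟨k, hk⟩ := Ideal.exists_pow_inf_eq_pow_smul J (LinearMap.ker g)
  -- work in `ker g`
  have hle : Submodule.map f (F₁ n₀) ≤ LinearMap.ker g := by
    rintro _ ⟨y, -, rfl⟩
    exact hgf y
  have key : (⟨z, hgz⟩ : LinearMap.ker g) ∈ (Submodule.map f (F₁ n₀)).comap (LinearMap.ker g).subtype := by
    apply krull_sup J hJ
    intro c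
    obtain ⟨n, hn, hn'⟩ := hc (c + k)
    obtain ⟨m, rfl⟩ := Nat.exists_eq_add_of_le hn
    obtain ⟨y, hy, hy'⟩ := h2 m
    have h3 : z - f y ∈ J ^ c • LinearMap.ker g := by
      have h4 : z - f y ∈ J ^ (c + k) • (⊤ : Submodule S M₂) ⊓ LinearMap.ker g :=
        ⟨hn' hy', LinearMap.mem_ker.2 (by rw [map_sub, hgz, hgf, sub_zero])⟩
      rw [hk (c + k) (Nat.le_add_left _ _), Nat.add_sub_cancel] at h4
      exact Submodule.smul_mono le_rfl inf_le_right h4
    have h5 : z - f y ∈ Submodule.map (LinearMap.ker g).subtype (J ^ c • (⊤ : Submodule S (LinearMap.ker g))) := by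
      rw [Submodule.map_smul'', Submodule.map_top, Submodule.range_subtype]
      exact h3
    obtain ⟨w, hw, hw'⟩ := h5
    refine Submodule.mem_sup.2 ⟨⟨f y, hgf y⟩, ⟨y, hy, rfl⟩, w, hw, ?_⟩
    apply Subtype.ext
    change f y + (LinearMap.ker g).subtype w = z
    rw [hw']
    abel
  obtain ⟨y, hy, hy'⟩ := key
  exact ⟨y, hy, hy'⟩

/-- consequence for the quotient: if moreover `z` is a cocycle modulo `F₃ n₀` ... the quotient map is injective on cohomology: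
a cocycle `z` with `z - f y₀ ∈ F₂ n₀` is a coboundary. -/
theorem coboundary_of_quot {M₁ M₂ M₃ : Type*} [AddCommGroup M₁] [Module S M₁] [AddCommGroup M₂] [Module S M₂]
    [Module.Finite S M₂] [AddCommGroup M₃] [Module S M₃] (hJ : J ≤ Ideal.jacobson ⊥)
    (f : M₁ →ₗ[S] M₂) (g : M₂ →ₗ[S] M₃) (hgf : ∀ y, g (f y) = 0)
    (F₁ : ℕ → Submodule S M₁) (F₂ : ℕ → Submodule S M₂) (n₀ : ℕ) (h₁ : ∀ n, n₀ ≤ n → F₁ n ≤ F₁ n₀)
    (hc : ∀ c : ℕ, ∃ n, n₀ ≤ n ∧ F₂ n ≤ J ^ c • (⊤ : Submodule S M₂))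
    (h : ∀ n, n₀ ≤ n → ∀ z ∈ F₂ n, g z = 0 → ∃ y ∈ F₁ n, z - f y ∈ F₂ (n + 1))
    (z : M₂) (hz : g z = 0) (y₀ : M₁) (hy₀ : z - f y₀ ∈ F₂ n₀) : ∃ y, f y = z := by
  obtain ⟨y, -, hy⟩ := exact_of_graded J hJ f g hgf F₁ F₂ n₀ h₁ hc h (z - f y₀) hy₀
    (by rw [map_sub, hz, hgf, sub_zero])
  exact ⟨y + y₀, by rw [map_add, hy]; abel⟩

/-- surjectivity: a cocycle of the quotient lifts to a cocycle.  `M₂ → M₃ → M₄`, exactness at `M₃` in the filtration. -/
theorem cocycle_lift {M₂ M₃ M₄ : Type*} [AddCommGroup M₂] [Module S M₂] [AddCommGroup M₃] [Module S M₃]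
    [Module.Finite S M₃] [AddCommGroup M₄] [Module S M₄] (hJ : J ≤ Ideal.jacobson ⊥)
    (g : M₂ →ₗ[S] M₃) (g' : M₃ →ₗ[S] M₄) (hgg : ∀ y, g' (g y) = 0)
    (F₂ : ℕ → Submodule S M₂) (F₃ : ℕ → Submodule S M₃) (n₀ : ℕ) (h₁ : ∀ n, n₀ ≤ n → F₂ n ≤ F₂ n₀)
    (hc : ∀ c : ℕ, ∃ n, n₀ ≤ n ∧ F₃ n ≤ J ^ c • (⊤ : Submodule S M₃))
    (h : ∀ n, n₀ ≤ n → ∀ z ∈ F₃ n, g' z = 0 → ∃ y ∈ F₂ n, z - g y ∈ F₃ (n + 1))
    (z : M₂) (hz : g z ∈ F₃ n₀) : ∃ z', z - z' ∈ F₂ n₀ ∧ g z' = 0 := by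
  obtain ⟨y, hy, hy'⟩ := exact_of_graded J hJ g g' hgg F₂ F₃ n₀ h₁ hc h (g z) hz (hgg z)
  exact ⟨z - y, by simpa using hy, by rw [map_sub, hy', sub_self]⟩

end AK

section OneAdd

variable {P : Type*} [CommRing P] (J : Ideal P)

/-- the multiplicative set `1 + J` -/
def oneAdd : Submonoid P where
  carrier := {x | x - 1 ∈ J}
  one_mem' := by simp
  mul_mem' {a b} ha hb := by
    have : a * b - 1 = a * (b - 1) + (a - 1) := by ring
    change a * b - 1 ∈ J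
    rw [this]
    exact J.add_mem (J.mul_mem_left _ hb) ha

theorem mem_oneAdd {x : P} : x ∈ oneAdd J ↔ x - 1 ∈ J := Iff.rfl

variable (L : Type*) [CommRing L] [Algebra P L] [IsLocalization (oneAdd J) L]

/-- `J` lies in the Jacobson radical of the localization at `1 + J` -/
theorem map_le_jacobson : J.map (algebraMap P L) ≤ Ideal.jacobson ⊥ := by
  intro x hx
  rw [Ideal.mem_jacobson_bot]
  intro y
  have hxy : x * y ∈ J.map (algebraMap P L) := Ideal.mul_mem_right _ _ hx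
  obtain ⟨⟨a, s⟩, ha⟩ := (IsLocalization.mem_map_algebraMap_iff (oneAdd J) L).1 hxy
  change x * y * algebraMap P L s = algebraMap P L a at ha
  have h1 : IsUnit (algebraMap P L (a + s)) := by
    apply IsLocalization.map_units L (⟨(a : P) + s, ?_⟩ : oneAdd J)
    rw [mem_oneAdd, add_sub_assoc]
    exact J.add_mem a.2 s.2
  have h2 : (x * y + 1) * algebraMap P L s = algebraMap P L (a + s) := by
    rw [map_add, add_mul, ha, one_mul]
  rw [← h2] at h1
  exact isUnit_of_mul_isUnit_left h1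

/-- every element of `P` is hit modulo `J^n` (any ideal `I ≥ J^n`): `P → L / I L` is onto -/
theorem exists_sub_mem {I : Ideal P} {n : ℕ} (hI : J ^ n ≤ I) (x : L) : ∃ a : P, x - algebraMap P L a ∈ I.map (algebraMap P L) := by
  obtain ⟨a, s, rfl⟩ := IsLocalization.exists_mk'_eq (oneAdd J) x
  -- `s = 1 + j`, `s * t = 1 ± j^n`
  have hs : (s : P) - 1 ∈ J := s.2
  obtain ⟨t, ht⟩ : ∃ t : P, (s : P) * t - 1 ∈ I := by
    refine ⟨∑ i ∈ Finset.range n, (1 - (s : P)) ^ i, hI ?_⟩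
    have h1 : (1 - (1 - (s : P))) * ∑ i ∈ Finset.range n, (1 - (s : P)) ^ i = 1 - (1 - (s : P)) ^ n := by
      rw [mul_neg_geom_sum]
    rw [sub_sub_cancel] at h1
    rw [h1, sub_sub_cancel_left]
    refine neg_mem (Ideal.pow_mem_pow ?_ n)
    rw [← neg_sub]
    exact neg_mem hs
  refine ⟨a * t, ?_⟩
  have h2 : IsLocalization.mk' L a s - algebraMap P L (a * t) =
      - (IsLocalization.mk' L a s * algebraMap P L (s * t - 1)) := by
    rw [map_sub, map_mul, map_mul, map_one, mul_sub, mul_one, ← mul_assoc, IsLocalization.mk'_spec, neg_sub]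
  rw [h2]
  exact neg_mem (Ideal.mul_mem_left _ _ (Ideal.mem_map_of_mem _ ht))

/-- `I L ∩ P = I` for `I ≥ J^n` -/
theorem mem_of_map_mem {I : Ideal P} {n : ℕ} (hI : J ^ n ≤ I) (a : P) (ha : algebraMap P L a ∈ I.map (algebraMap P L)) : a ∈ I := by
  obtain ⟨⟨b, s⟩, hb⟩ := (IsLocalization.mem_map_algebraMap_iff (oneAdd J) L).1 ha
  change algebraMap P L a * algebraMap P L s = algebraMap P L b at hb
  rw [← map_mul] at hb
  obtain ⟨c, hc⟩ := (IsLocalization.eq_iff_exists (oneAdd J) L).1 hb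
  -- `c * (a * s) = c * b ∈ I`, `c s ∈ 1 + J`
  have h1 : (c * s : P) * a ∈ I := by
    have : (c * s : P) * a = c * (a * s) := by ring
    rw [this, hc]
    exact I.mul_mem_left _ b.2
  have h2 : (c * s : P) - 1 ∈ J := (oneAdd J).mul_mem c.2 s.2
  have h3 : IsCoprime (J ^ n) (Ideal.span {(c * s : P)}) := by
    apply IsCoprime.pow_left
    rw [Ideal.isCoprime_iff_exists]
    exact ⟨1 - c * s, by rw [← neg_sub]; exact neg_mem h2, c * s, Ideal.mem_span_singleton_self _, by ring⟩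
  obtain ⟨i, hi, j, hj, hij⟩ := Ideal.isCoprime_iff_exists.1 h3
  obtain ⟨d, rfl⟩ := Ideal.mem_span_singleton'.1 hj
  have h4 : a = i * a + d * ((c * s : P) * a) := by
    linear_combination (-a) * hij
  rw [h4]
  exact I.add_mem (I.mul_mem_right _ (hI hi)) (I.mul_mem_left _ h1)

end OneAdd

end Groth.Agent.ResProp.EF.K454
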