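import Groth.Agent.ResProp.EF.K454.GrCx
import Groth.Agent.ResProp.EF.K294.Tor

/-!
# Short exact sequences of total modules; finite direct sums
-/

set_option autoImplicit false
set_option backward.defeqAttrib.useBackward true
set_option backward.isDefEq.respectTransparency false

universe v u

open CategoryTheory CategoryTheory.Limits CategoryTheory.Idempotents

namespace Groth.Agent.ResProp.EF.K454

namespace GrObj

section

variable {R : Type u} [Ring R] {G₁ G₂ G₃ : GrObj (ModuleCat.{v} R)} (a : G₁ ⟶ G₂) (b : G₂ ⟶ G₃)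

theorem mapX_apply {G G' : GrObj (ModuleCat.{v} R)} (a : G ⟶ G') (i : ℤ) (x : G.X i) :
    (G'.ι i).hom ((mapX a i).hom x) = (Hom.f a).hom ((G.ι i).hom x) :=
  congrArg (fun f : G.X i ⟶ G'.K => f.hom x) (mapX_ι a i)

theorem hp_apply {G G' : GrObj (ModuleCat.{v} R)} (a : G ⟶ G') (i : ℤ) (x : G.K) :
    (Hom.f a).hom ((G.p i).hom x) = (G'.p i).hom ((Hom.f a).hom x) :=
  congrArg (fun f : G.K ⟶ G'.K => f.hom x) (Hom.hp a i)

theorem hd_apply {G G' : GrObj (ModuleCat.{v} R)} (a : G ⟶ G') (x : G.K) :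
    (Hom.f a).hom (G.d.hom x) = G'.d.hom ((Hom.f a).hom x) :=
  congrArg (fun f : G.K ⟶ G'.K => f.hom x) (Hom.hd a)

theorem p_p_apply (G : GrObj (ModuleCat.{v} R)) (i : ℤ) (x : G.K) : (G.p i).hom ((G.p i).hom x) = (G.p i).hom x :=
  congrArg (fun f : G.K ⟶ G.K => f.hom x) (G.idem i)

theorem p_ι_apply (G : GrObj (ModuleCat.{v} R)) (i : ℤ) (x : G.X i) : (G.p i).hom ((G.ι i).hom x) = (G.ι i).hom x :=
  congrArg (fun f : G.X i ⟶ G.K => f.hom x) (G.ι_p i)

theorem ι_π_apply (G : GrObj (ModuleCat.{v} R)) (i : ℤ) (x : G.K) : (G.ι i).hom ((G.π i).hom x) = (G.p i).hom x :=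
  congrArg (fun f : G.K ⟶ G.K => f.hom x) (G.π_ι i)

theorem π_ι_apply (G : GrObj (ModuleCat.{v} R)) (i : ℤ) (x : G.X i) : (G.π i).hom ((G.ι i).hom x) = x :=
  congrArg (fun f : G.X i ⟶ G.X i => f.hom x) (G.ι_π i)

theorem comm_apply (G : GrObj (ModuleCat.{v} R)) (i : ℤ) (x : G.K) : G.d.hom ((G.p i).hom x) = (G.p (i + 1)).hom (G.d.hom x) :=
  congrArg (fun f : G.K ⟶ G.K => f.hom x) (G.comm i)

/-- short exactness of the complexes -/
theorem shortExact_cx (hab : a ≫ b = ⟨0, by simp, fun i => by simp⟩) (hinj : Function.Injective (Hom.f a).hom)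
    (hex : Function.Exact (Hom.f a).hom (Hom.f b).hom) (hsurj : Function.Surjective (Hom.f b).hom) :
    ∃ h : cxMap a ≫ cxMap b = 0, (ShortComplex.mk (cxMap a) (cxMap b) h).ShortExact := by
  have h : cxMap a ≫ cxMap b = 0 := by
    ext i : 1
    change mapX a i ≫ mapX b i = 0
    have h1 : Hom.f a ≫ Hom.f b = 0 := congrArg Hom.f hab
    rw [mapX, Category.assoc, Category.assoc, π_mapX, reassoc_of% h1, zero_comp, comp_zero]
  refine ⟨h, HomologicalComplex.shortExact_of_degreewise_shortExact _ fun i => ?_⟩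
  change (ShortComplex.mk (mapX a i) (mapX b i) _).ShortExact
  refine { exact := ?_, mono_f := ?_, epi_g := ?_ }
  · rw [ShortComplex.moduleCat_exact_iff]
    intro x hx
    have h1 : (Hom.f b).hom ((G₂.ι i).hom x) = 0 := by
      rw [← mapX_apply]
      have : (mapX b i).hom x = 0 := hx
      rw [this, map_zero]
    obtain ⟨y, hy⟩ := (hex _).1 h1
    refine ⟨(G₁.π i).hom y, G₂.ι_inj i ?_⟩
    change (G₂.ι i).hom ((mapX a i).hom ((G₁.π i).hom y)) = _
    rw [mapX_apply, ι_π_apply, hp_apply, hy, p_ι_apply]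
  · rw [ModuleCat.mono_iff_injective]
    intro x y hxy
    apply G₁.ι_inj i
    apply hinj
    rw [← mapX_apply, ← mapX_apply]
    exact congrArg _ hxy
  · rw [ModuleCat.epi_iff_surjective]
    intro x
    obtain ⟨y, hy⟩ := hsurj ((G₃.ι i).hom x)
    refine ⟨(G₂.π i).hom y, G₃.ι_inj i ?_⟩
    change (G₃.ι i).hom ((mapX b i).hom ((G₂.π i).hom y)) = _
    rw [mapX_apply, ι_π_apply, hp_apply, hy, p_ι_apply]

end

section torGE

open Groth.Agent.ResProp.EF.K294

variable {R : Type u} [CommRing R]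

theorem torGE_iso {G G' : GrObj (ModuleCat.{u} R)} (e : G ≅ G') {a : ℤ} (h : TorGE a G.cx) : TorGE a G'.cx :=
  h.of_iso ((cxFunctor (ModuleCat.{u} R)).mapIso e)

/-- an isomorphism of total modules from a linear equivalence commuting with `d` and `p` -/
def isoOfEquiv {G G' : GrObj (ModuleCat.{u} R)} (e : G.K ≃ₗ[R] G'.K) (hd : ∀ x, e (G.d.hom x) = G'.d.hom (e x))
    (hp : ∀ i x, e ((G.p i).hom x) = (G'.p i).hom (e x)) : G ≅ G' where
  hom := ⟨ModuleCat.ofHom e.toLinearMap, by ext x; exact hd x, fun i => by ext x; exact hp i x⟩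
  inv := ⟨ModuleCat.ofHom e.symm.toLinearMap, by
    ext x
    change e.symm (G'.d.hom x) = G.d.hom (e.symm x)
    rw [e.symm_apply_eq, hd, e.apply_symm_apply], fun i => by
    ext x
    change e.symm ((G'.p i).hom x) = (G.p i).hom (e.symm x)
    rw [e.symm_apply_eq, hp, e.apply_symm_apply]⟩
  hom_inv_id := by
    apply Hom.ext
    ext x
    exact e.symm_apply_apply x
  inv_hom_id := by
    apply Hom.ext
    ext x
    exact e.apply_symm_apply x

/-- `G^t` -/
def pow (G : GrObj (ModuleCat.{u} R)) (t : ℕ) : GrObj (ModuleCat.{u} R) where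
  K := ModuleCat.of R (Fin t → G.K)
  d := ModuleCat.ofHom (LinearMap.pi fun j => G.d.hom ∘ₗ LinearMap.proj j)
  p i := ModuleCat.ofHom (LinearMap.pi fun j => (G.p i).hom ∘ₗ LinearMap.proj j)
  idem i := by
    apply ModuleCat.hom_ext
    apply LinearMap.ext
    intro x
    funext j
    exact G.p_p_apply i (x j)
  comm i := by
    apply ModuleCat.hom_ext
    apply LinearMap.ext
    intro x
    funext j
    exact G.comm_apply i (x j)
  dd := by
    apply ModuleCat.hom_ext
    apply LinearMap.ext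
    intro x
    funext j
    exact congrArg (fun f : G.K ⟶ G.K => f.hom (x j)) G.dd

theorem torGE_pow (G : GrObj (ModuleCat.{u} R)) {a : ℤ} (h : TorGE a G.cx) (t : ℕ) : TorGE a (G.pow t).cx := by
  induction t with
  | zero =>
    refine TorGE.of_acyclic fun i => ?_
    obtain ⟨i, rfl⟩ : ∃ j, i = j + 1 := ⟨i - 1, by omega⟩
    rw [exactAt_cx_iff]
    intro z _ _
    exact ⟨0, map_zero _, Subsingleton.elim (α := Fin 0 → G.K) _ _⟩
  | succ t ih =>
    let α : G ⟶ G.pow (t + 1) := ⟨ModuleCat.ofHom (LinearMap.single R (fun _ : Fin (t + 1) => G.K) 0), by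
      ext x
      change (Pi.single 0 (G.d.hom x) : Fin (t + 1) → G.K) = fun j => G.d.hom ((Pi.single 0 x : Fin (t + 1) → G.K) j)
      funext j
      by_cases hj : j = 0
      · subst hj; simp
      · simp [hj], fun i => by
      ext x
      change (Pi.single 0 ((G.p i).hom x) : Fin (t + 1) → G.K) = fun j => (G.p i).hom ((Pi.single 0 x : Fin (t + 1) → G.K) j)
      funext j
      by_cases hj : j = 0
      · subst hj; simp
      · simp [hj]⟩
    let β : G.pow (t + 1) ⟶ G.pow t := ⟨ModuleCat.ofHom (LinearMap.pi fun j => LinearMap.proj j.succ), by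
      ext x; rfl, fun i => by ext x; rfl⟩
    obtain ⟨h0, hS⟩ := shortExact_cx α β (by
        apply Hom.ext
        ext x
        funext j
        change (Pi.single 0 x : Fin (t + 1) → G.K) j.succ = 0
        simp) (by
        intro x y hxy
        exact Pi.single_injective (M := fun _ : Fin (t + 1) => G.K) 0 hxy) (by
        intro y
        constructor
        · intro hy
          refine ⟨(y : Fin (t + 1) → G.K) 0, ?_⟩
          funext j
          change (Pi.single 0 ((y : Fin (t + 1) → G.K) 0) : Fin (t + 1) → G.K) j = (y : Fin (t + 1) → G.K) j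
          induction j using Fin.cases with
          | zero => simp
          | succ j =>
            have := congrFun hy j
            rw [Pi.single_eq_of_ne (Fin.succ_ne_zero j)]
            exact this.symm
        · rintro ⟨x, rfl⟩
          funext j
          change (Pi.single 0 x : Fin (t + 1) → G.K) j.succ = 0
          simp) (by
        intro y
        exact ⟨(Fin.cons 0 (y : Fin t → G.K) : Fin (t + 1) → G.K), by
          funext j
          rfl⟩)
    exact TorGE.ses₂ hS h ih

/-- `K ≃ (K₀)^t` compatible with everything -/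
theorem torGE_of_equiv_pi {G G₀ : GrObj (ModuleCat.{u} R)} {t : ℕ} (e : G.K ≃ₗ[R] (Fin t → G₀.K))
    (hd : ∀ x j, e (G.d.hom x) j = G₀.d.hom (e x j)) (hp : ∀ i x j, e ((G.p i).hom x) j = (G₀.p i).hom (e x j))
    {a : ℤ} (h : TorGE a G₀.cx) : TorGE a G.cx := by
  refine torGE_iso (isoOfEquiv (G := G) (G' := G₀.pow t) e (fun x => ?_) (fun i x => ?_)).symm (G₀.torGE_pow h t)
  · funext j; exact hd x j
  · funext j; exact hp i x j

end torGE

end GrObj

end Groth.Agent.ResProp.EF.K454
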