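import Groth.Agent.ResProp.EF.K454.Rees2
import Groth.Agent.ResProp.EF.K224.KosBasis

/-!
# 4.1 (K1): the Koszul complex of a weighted generating family of `gr Fil` is acyclic in large weights
-/

set_option autoImplicit false

open Polynomial Module

namespace Groth.Agent.ResProp.EF.K454

open Groth.Agent.ResProp.EF.K224.Kos

section

variable {P : Type*} [CommRing P] {e : ℕ} {Fil : ℕ → Ideal P}

theorem mulFil_of_mFil (h : MFil Fil) : MulFil Fil := ⟨h.zero, h.anti, fun hx hy => h.mul _ _ _ _ hx hy⟩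

theorem modFil_FilK (h : MFil Fil) (w : Fin e → ℕ) : ModFil Fil (FilK Fil w) := ⟨FilK_anti h, fun hx hy => smul_mem_FilK h hx hy⟩

theorem reesM_FilK_fg (h : MFil Fil) (w : Fin e → ℕ) : (reesM (mulFil_of_mFil h) (modFil_FilK h w)).FG := by
  refine reesM_fg _ _ (κ := Finset (Fin e)) (wt w) (fun I => eb P e I) (fun I => eb_mem h I) ?_
  intro n z hz
  exact ⟨fun I => (eb P e).repr z I, fun I => hz I, ((eb P e).sum_repr z).symm⟩

/-- **(K1)** -/
theorem exists_k0 [IsNoetherianRing P] (h : MFil Fil) (J J2 : Ideal P) (h21 : J2 ≤ J) (hJ : J ≤ Fil 1) (hJ2 : J2 ≤ Fil 2)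
    (hgen : ∀ n, Fil n ≤ filJ J J2 n) (w : Fin e → ℕ) (φ : Module.Dual P (Fin e → P))
    (hu : ∀ (n : ℕ), 1 ≤ n → ∀ r ∈ Fil n, ∃ b : Fin e → P, (∀ j, b j ∈ Fil (n - w j)) ∧
      r - ∑ j, φ (Pi.single j 1) * b j ∈ Fil (n + 1)) :
    ∃ k₀ : ℕ, ∀ n, k₀ < n → ∀ z ∈ FilK Fil w n, CliffordAlgebra.contractLeft φ z ∈ FilK Fil w (n + 1) →
      ∃ y ∈ FilK Fil w n, z - CliffordAlgebra.contractLeft φ y ∈ FilK Fil w (n + 1) := by
  have hN : IsNoetherianRing (rees (mulFil_of_mFil h)) := rees_noetherian _ J J2 h21 hJ hJ2 hgen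
  refine exists_graded_exact (mulFil_of_mFil h) (modFil_FilK h w) (reesM_FilK_fg h w) (CliffordAlgebra.contractLeft φ)
    w (fun j => φ (Pi.single j 1)) (fun j => LinearMap.mulLeft P (ExteriorAlgebra.ι P (Pi.single j 1))) ?_ ?_ hu
  · intro j n z hz
    rw [LinearMap.mulLeft_apply, add_comm]
    exact mul_mem_FilK h (ι_mem _ (single_mem h j)) hz
  · intro j z
    rw [LinearMap.mulLeft_apply, LinearMap.mulLeft_apply]
    have h1 : CliffordAlgebra.contractLeft φ (ExteriorAlgebra.ι P (Pi.single j 1) * z) =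
        φ (Pi.single j 1) • z - ExteriorAlgebra.ι P (Pi.single j 1) * CliffordAlgebra.contractLeft φ z := by
      erw [CliffordAlgebra.contractLeft_ι_mul]
    rw [h1, sub_add_cancel]

/-- `FilK` is cofinal with the `J`-adic filtration -/
theorem FilK_le_pow (h : MFil Fil) (J J2 : Ideal P) (h21 : J2 ≤ J) (hgen : ∀ n, Fil n ≤ filJ J J2 n) (w : Fin e → ℕ) (c : ℕ) :
    FilK Fil w (2 * c + ∑ i, w i) ≤ J ^ c • (⊤ : Submodule P (KA P e)) := by
  rw [FilK_le_iff]
  intro I x hx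
  refine Submodule.smul_mem_smul ?_ trivial
  have h1 : Fil (2 * c + ∑ i, w i - wt w I) ≤ Fil (2 * c) := h.anti (by have := wt_le w I; omega)
  have h2 : filJ J J2 (2 * c) ≤ J ^ c := by
    refine filJ_le fun a b hab => ?_
    calc J ^ a * J2 ^ b ≤ J ^ a * J ^ b := Ideal.mul_mono_right (Ideal.pow_right_mono h21 b)
      _ = J ^ (a + b) := (pow_add J a b).symm
      _ ≤ J ^ c := Ideal.pow_le_pow_right (by omega)
  exact h2 (hgen _ (h1 hx))

theorem pow_smul_le_FilK (h : MFil Fil) (J : Ideal P) (hJ : J ≤ Fil 1) (w : Fin e → ℕ) (n : ℕ) :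
    J ^ n • (⊤ : Submodule P (KA P e)) ≤ FilK Fil w n := by
  have h1 : ∀ n, J ^ n ≤ Fil n := by
    intro n
    induction n with
    | zero => rw [h.zero]; exact le_top
    | succ n ih =>
      rw [pow_succ, Ideal.mul_le]
      exact fun x hx y hy => h.mul _ _ _ _ (ih hx) (hJ hy)
  rw [Submodule.smul_le]
  intro x hx y _
  have h2 : y ∈ FilK Fil w 0 := by rw [FilK_zero h]; trivial
  exact smul_mem_FilK h (h1 n hx) h2

end

end Groth.Agent.ResProp.EF.K454
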