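import Groth.Agent.ResProp.EF.K454.KosTor
import Groth.Agent.ResProp.EF.K224.KosBC
import Groth.Agent.ResProp.EF.K734.Lift

/-!
# 4.1: the truncated Koszul complex over `R`, and over the truncated ring

`kozGr`: the total `R`-module of `kozFD` with its differential and projections to the cohomological degrees.
`kozGrIso`: it does not change when `P` is replaced by a quotient `P'` by an ideal in `Fil (k+1)`.
-/

set_option autoImplicit false
set_option backward.defeqAttrib.useBackward true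
set_option backward.isDefEq.respectTransparency false

universe u

open CategoryTheory CategoryTheory.Limits CategoryTheory.Idempotents

namespace Groth.Agent.ResProp.EF.K454

open Groth.Agent.ResProp.EF.K734
open Groth.Agent.ResProp.EF.K224.Kos (KA eb wt FilK mem_FilK eb_insert_of_lt FilK_le_iff FilK_le_of smul_eb_mem eb_mem
  smul_mem_FilK mul_mem_FilK ι_mem FilE mem_FilE FilK_anti units_smul_mem wt_insert bcK bcK_ι bcK_eb bcK_repr bcv)
open Groth.Agent.ResProp.EF.K294

section kozGr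

variable (R : Type u) {P : Type u} [CommRing R] [CommRing P] [Algebra R P] {M : Type u} [AddCommGroup M] [Module P M]
  [Module R M] [IsScalarTower R P M] (F : K734.MFil P) (G : MFilM F M) (w : Module.Dual P M)

theorem zp_mem' (m : ℕ) (n : ℤ) (z : ExteriorAlgebra P M) (hz : z ∈ filA F G m) : zp P M n z ∈ filA F G m := by
  rw [zp]
  split_ifs
  · exact zero_mem _
  · exact kproj_mem F G hz _

/-- the truncated Koszul complex as a total `R`-module -/
noncomputable def kozGr (hw : ∀ b v, v ∈ G.G b → w v ∈ F.F b) (k : ℕ) : GrObj (ModuleCat.{u} R) where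
  K := ModuleCat.of R (kozFD (R := R) F G w hw k).K
  d := ModuleCat.ofHom (((kozFD (R := R) F G w hw k).op none).restrictScalars R)
  p n := ModuleCat.ofHom (((filA F G (k + 1)).mapQ (filA F G (k + 1)) (zp P M n)
    (fun z hz => zp_mem' F G (k + 1) n z hz)).restrictScalars R)
  idem n := by
    apply ModuleCat.hom_ext
    apply LinearMap.ext
    intro z
    obtain ⟨z, rfl⟩ := (filA F G (k + 1)).mkQ_surjective z
    exact congrArg (filA F G (k + 1)).mkQ (zp_zp n z)
  comm n := by
    apply ModuleCat.hom_ext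
    apply LinearMap.ext
    intro z
    obtain ⟨z, rfl⟩ := (filA F G (k + 1)).mkQ_surjective z
    exact congrArg (filA F G (k + 1)).mkQ (zp_kd w n z)
  dd := by
    apply ModuleCat.hom_ext
    apply LinearMap.ext
    intro z
    obtain ⟨z, rfl⟩ := (filA F G (k + 1)).mkQ_surjective z
    exact congrArg (filA F G (k + 1)).mkQ (kd_kd w z)

/-- comparison with the restriction of scalars of `kosQuot` -/
noncomputable def kozGrRes (hw : ∀ b v, v ∈ G.G b → w v ∈ F.F b) (k : ℕ)
    (hd : ∀ z ∈ filA F G (k + 1), kd w z ∈ filA F G (k + 1)) (hp : ∀ n, ∀ z ∈ filA F G (k + 1), zp P M n z ∈ filA F G (k + 1)) :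
    (kosQuot w (filA F G (k + 1)) hd hp).mapG (ModuleCat.restrictScalars (algebraMap R P)) ≅ kozGr R F G w hw k :=
  GrObj.isoOfEquiv
    (G := (kosQuot w (filA F G (k + 1)) hd hp).mapG (ModuleCat.restrictScalars (algebraMap R P)))
    (G' := kozGr R F G w hw k)
    { toFun := fun x => x
      invFun := fun x => x
      left_inv := fun _ => rfl
      right_inv := fun _ => rfl
      map_add' := fun _ _ => rfl
      map_smul' := fun r x => (algebraMap_smul P r (show (ExteriorAlgebra P M ⧸ filA F G (k + 1)) from x)) }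
    (fun _ => rfl) (fun _ _ => rfl)

end kozGr

section quot

variable {R P P' : Type u} [CommRing R] [CommRing P] [CommRing P'] [Algebra R P] [Algebra R P'] [Algebra P P']
  [IsScalarTower R P P'] {e : ℕ}

/-- `kmap` is `bcK` -/
theorem kmap_eq_bcK (z : KA P e) : kmap (algebraMap P P') (cmap (Fin e) (algebraMap P P')) z = bcK P P' e z := by
  refine ringHom_ext (f := kmap (algebraMap P P') (cmap (Fin e) (algebraMap P P'))) (g := (bcK P P' e : KA P e →+* KA P' e))
    (fun x => ?_) (fun v => ?_) z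
  · rw [kmap_algebraMap]
    change _ = bcK P P' e (algebraMap P _ x)
    rw [AlgHom.commutes]
    rfl
  · rw [kmap_ι]
    change _ = bcK P P' e (ExteriorAlgebra.ι P v)
    rw [bcK_ι]
    rfl

theorem bcK_surjective (hs : Function.Surjective (algebraMap P P')) : Function.Surjective (bcK P P' e) := by
  intro z
  induction z using left_ind with
  | h0 x =>
    obtain ⟨y, rfl⟩ := hs x
    refine ⟨algebraMap P _ y, ?_⟩
    rw [AlgHom.commutes]
    rfl
  | h1 y z hy hz =>
    obtain ⟨y', rfl⟩ := hy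
    obtain ⟨z', rfl⟩ := hz
    exact ⟨y' + z', map_add _ _ _⟩
  | h2 v z hz =>
    obtain ⟨z', rfl⟩ := hz
    choose v' hv' using fun i => hs (v i)
    refine ⟨ExteriorAlgebra.ι P v' * z', ?_⟩
    rw [map_mul, bcK_ι]
    congr 2
    funext i
    exact hv' i

variable {F : K734.MFil P} {F' : K734.MFil P'} {w : Fin e → ℕ} {G : MFilM F (Fin e → P)} {G' : MFilM F' (Fin e → P')}
  {φ : Module.Dual P (Fin e → P)} {φ' : Module.Dual P' (Fin e → P')}

theorem bcK_mem_iff (hG : ∀ b, G.G b = FilE F.F w b) (hG' : ∀ b, G'.G b = FilE F'.F w b) {m : ℕ}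
    (hF : ∀ n, n ≤ m → ∀ x, algebraMap P P' x ∈ F'.F n ↔ x ∈ F.F n) (z : KA P e) :
    bcK P P' e z ∈ filA F' G' m ↔ z ∈ filA F G m := by
  rw [filA_eq F w G hG, filA_eq F' w G' hG', mem_FilK, mem_FilK]
  refine forall_congr' fun I => ?_
  rw [bcK_repr]
  exact hF _ (Nat.sub_le _ _) _

/-- the map of truncated Koszul modules -/
noncomputable def kozQ (hG : ∀ b, G.G b = FilE F.F w b) (hG' : ∀ b, G'.G b = FilE F'.F w b) (k : ℕ)
    (hF : ∀ n, n ≤ k + 1 → ∀ x, algebraMap P P' x ∈ F'.F n ↔ x ∈ F.F n) :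
    (KA P e ⧸ filA F G (k + 1)) →+ (KA P' e ⧸ filA F' G' (k + 1)) :=
  QuotientAddGroup.map (filA F G (k + 1)).toAddSubgroup (filA F' G' (k + 1)).toAddSubgroup (bcK P P' e).toRingHom.toAddMonoidHom
    (fun z hz => (bcK_mem_iff hG hG' hF z).2 hz)

theorem kozQ_mk (hG : ∀ b, G.G b = FilE F.F w b) (hG' : ∀ b, G'.G b = FilE F'.F w b) (k : ℕ)
    (hF : ∀ n, n ≤ k + 1 → ∀ x, algebraMap P P' x ∈ F'.F n ↔ x ∈ F.F n) (z : KA P e) :
    kozQ hG hG' k hF ((filA F G (k + 1)).mkQ z) = (filA F' G' (k + 1)).mkQ (bcK P P' e z) := rfl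

theorem kozQ_bijective (hG : ∀ b, G.G b = FilE F.F w b) (hG' : ∀ b, G'.G b = FilE F'.F w b) (k : ℕ)
    (hF : ∀ n, n ≤ k + 1 → ∀ x, algebraMap P P' x ∈ F'.F n ↔ x ∈ F.F n) (hs : Function.Surjective (algebraMap P P')) :
    Function.Bijective (kozQ hG hG' k hF) := by
  constructor
  · rw [injective_iff_map_eq_zero]
    intro z hz
    obtain ⟨z, rfl⟩ := (filA F G (k + 1)).mkQ_surjective z
    rw [kozQ_mk, Submodule.mkQ_apply, Submodule.Quotient.mk_eq_zero, bcK_mem_iff hG hG' hF] at hz
    exact (Submodule.Quotient.mk_eq_zero _).2 hz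
  · intro z
    obtain ⟨z, rfl⟩ := (filA F' G' (k + 1)).mkQ_surjective z
    obtain ⟨y, rfl⟩ := bcK_surjective hs z
    exact ⟨(filA F G (k + 1)).mkQ y, rfl⟩

/-- the truncated Koszul complex does not change when `P` is replaced by a quotient by an ideal in `Fil (k+1)` -/
noncomputable def kozGrIso (hG : ∀ b, G.G b = FilE F.F w b) (hG' : ∀ b, G'.G b = FilE F'.F w b) (k : ℕ)
    (hF : ∀ n, n ≤ k + 1 → ∀ x, algebraMap P P' x ∈ F'.F n ↔ x ∈ F.F n) (hs : Function.Surjective (algebraMap P P'))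
    (hφφ : ∀ v : Fin e → P, φ' (fun i => algebraMap P P' (v i)) = algebraMap P P' (φ v))
    (hφ : ∀ b v, v ∈ G.G b → φ v ∈ F.F b) (hφ' : ∀ b v, v ∈ G'.G b → φ' v ∈ F'.F b) :
    kozGr R F G φ hφ k ≅ kozGr R F' G' φ' hφ' k :=
  GrObj.isoOfEquiv (G := kozGr R F G φ hφ k) (G' := kozGr R F' G' φ' hφ' k)
    (LinearEquiv.ofBijective
      { kozQ hG hG' k hF with
        map_smul' := fun r z => by
          obtain ⟨z, rfl⟩ := (filA F G (k + 1)).mkQ_surjective z
          change kozQ hG hG' k hF ((filA F G (k + 1)).mkQ (r • z)) = r • (filA F' G' (k + 1)).mkQ (bcK P P' e z)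
          rw [kozQ_mk, ← algebraMap_smul P r z, map_smul, algebraMap_smul]
          rfl } (kozQ_bijective hG hG' k hF hs))
    (fun z => by
      obtain ⟨z, rfl⟩ := (filA F G (k + 1)).mkQ_surjective z
      change (filA F' G' (k + 1)).mkQ (bcK P P' e (kd φ z)) = (filA F' G' (k + 1)).mkQ (kd φ' (bcK P P' e z))
      rw [← kmap_eq_bcK, ← kmap_eq_bcK, kmap_kd _ _ φ φ' hφφ])
    (fun n z => by
      obtain ⟨z, rfl⟩ := (filA F G (k + 1)).mkQ_surjective z
      change (filA F' G' (k + 1)).mkQ (bcK P P' e (zp P _ n z)) = (filA F' G' (k + 1)).mkQ (zp P' _ n (bcK P P' e z))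
      congr 1
      rw [zp, zp]
      split_ifs
      · exact map_zero _
      · rw [← kmap_eq_bcK, ← kmap_eq_bcK, kmap_kproj])

end quot

end Groth.Agent.ResProp.EF.K454
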