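import Groth.Agent.ResProp.EF.K294.Tor
import Groth.Agent.ResProp.EF.K224.LocQis

/-!
# 4.1 (D): Tor-amplitude of truncated filtered complexes

`torGE_of_flat`: a bounded complex of flat modules in degrees `≥ a` has `TorGE a`.
`torGE_of_truncated`: the quotient `Q = K / Fil n₀` of 4.1 has `TorGE a` over `R`.
-/

set_option autoImplicit false
set_option backward.defeqAttrib.useBackward true
set_option backward.isDefEq.respectTransparency false

universe u

open CategoryTheory CategoryTheory.Limits MonoidalCategory HomologicalComplex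

namespace Groth.Agent.ResProp.EF.K454

open Groth.Agent.ResProp.EF.K294
open Groth.Agent.Dcoh.KFlatAbs Groth.Agent.Dcoh.KFlatSingle Groth.Agent.Dcoh.KFlatBdd
  Groth.Agent.PerfB.RingKFlat Groth.Agent.Dcoh.KFlatFlip Groth.Agent.Dcoh.KFlatSES
  Groth.Agent.Htor.H240.FlatTens

variable {A : Type u} [CommRing A]

/-- a flat resolution maps quasi-isomorphically to its homology in degree 0 -/
theorem exists_single (L : CM A) (hL : IsTest L) :
    ∃ (M : ModuleCat.{u} A) (π : L ⟶ (single (ModuleCat.{u} A) (ComplexShape.up ℤ) 0).obj M), QuasiIso π := by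
  have := hL.le
  have hGE : L.IsGE 0 := (CochainComplex.isGE_iff L 0).2 hL.exact
  have h1 : QuasiIso (CochainComplex.πTruncGE L 0) :=
    (CochainComplex.quasiIso_πTruncGE_iff L 0).2 hGE
  obtain ⟨M, ⟨e⟩⟩ := CochainComplex.exists_iso_single (CochainComplex.truncGE L 0) 0
  exact ⟨M, CochainComplex.πTruncGE L 0 ≫ e.hom, inferInstance⟩

/-- **(D0)** a bounded above complex of flat modules in degrees `≥ a` has Tor-amplitude `≥ a`. -/
theorem torGE_of_flat (K : CM A) (hK : ∀ n, Module.Flat A (K.X n)) (a b : ℤ) [K.IsStrictlyGE a] [K.IsStrictlyLE b] :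
    TorGE a K := by
  intro L hL i hi
  obtain ⟨M, π, hπ⟩ := exists_single L hL
  have h0 : KFl (TR A).flip K := kfl_flip K hK (b := b) ((CochainComplex.isStrictlyLE_iff K b).1 inferInstance)
  have h1 : QuasiIso (((TR A).map₂CochainComplex.obj K).map π) := quasiIso_of_kfl_flip h0 π
  rw [exactAt_iff_of_quasiIsoAt (((TR A).map₂CochainComplex.obj K).map π) i]
  refine HomologicalComplex.ExactAt.of_iso ?_ (singleIso (TR A) K M)
  have h2 : IsZero (K.X i) := (CochainComplex.isStrictlyGE_iff K a).1 inferInstance i hi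
  have h3 : IsZero (((((TR A).flip.obj M).mapHomologicalComplex (ComplexShape.up ℤ)).obj K).X i) :=
    ((TR A).flip.obj M).map_isZero h2
  exact ShortComplex.exact_of_isZero_X₂ _ h3

section truncated

variable {R P : Type u} [CommRing R] [CommRing P] [Algebra R P]

/-- restriction of scalars preserves quasi-isomorphisms -/
theorem quasiIso_res {K L : CochainComplex (ModuleCat.{u} P) ℤ} (f : K ⟶ L) [QuasiIso f] :
    QuasiIso (((ModuleCat.restrictScalars (algebraMap R P)).mapHomologicalComplex (ComplexShape.up ℤ)).map f) :=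
  inferInstance

/-- **(D1)** quasi-isomorphic to a bounded complex of `P`-flat modules in degrees `≥ a`, `P` flat over `R`. -/
theorem torGE_res_of_quasiIso [Module.Flat R P] {K L : CochainComplex (ModuleCat.{u} P) ℤ} (f : K ⟶ L) [QuasiIso f]
    (hK : ∀ n, Module.Flat P (K.X n)) (a b : ℤ) (ha : ∀ n, n < a → IsZero (K.X n)) (hb : ∀ n, b < n → IsZero (K.X n)) :
    TorGE a (((ModuleCat.restrictScalars (algebraMap R P)).mapHomologicalComplex (ComplexShape.up ℤ)).obj L) := by
  have h1 := quasiIso_res (R := R) f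
  rw [← torGE_iff_of_quasiIso (((ModuleCat.restrictScalars (algebraMap R P)).mapHomologicalComplex
    (ComplexShape.up ℤ)).map f)]
  have h2 : CochainComplex.IsStrictlyGE (((ModuleCat.restrictScalars (algebraMap R P)).mapHomologicalComplex
      (ComplexShape.up ℤ)).obj K) a :=
    (CochainComplex.isStrictlyGE_iff _ a).2 fun n hn => (ModuleCat.restrictScalars (algebraMap R P)).map_isZero (ha n hn)
  have h3 : CochainComplex.IsStrictlyLE (((ModuleCat.restrictScalars (algebraMap R P)).mapHomologicalComplex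
      (ComplexShape.up ℤ)).obj K) b :=
    (CochainComplex.isStrictlyLE_iff _ b).2 fun n hn => (ModuleCat.restrictScalars (algebraMap R P)).map_isZero (hb n hn)
  refine torGE_of_flat _ (fun n => ?_) a b
  change Module.Flat R ((ModuleCat.restrictScalars (algebraMap R P)).obj (K.X n))
  have h4 := hK n
  let _ : Module R (K.X n) := Module.compHom _ (algebraMap R P)
  have _ : IsScalarTower R P (K.X n) := ⟨fun x y z => by
    change (x • y) • z = algebraMap R P x • (y • z)
    rw [Algebra.smul_def, mul_smul]⟩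
  exact Module.Flat.trans R P (K.X n)

/-- **4.1 (D)** the quotient of a filtered bounded complex of f.g. flat `P`-modules by a step `Fil n₀` with acyclic graded pieces
beyond has Tor-amplitude `≥ a` over `R`. -/
theorem torGE_of_truncated [Module.Flat R P] [IsNoetherianRing P] (J : Ideal P)
    (E : ShortComplex (CochainComplex (ModuleCat.{u} P) ℤ)) (hE : E.ShortExact)
    [∀ i, Module.Finite P (E.X₂.X i)] [∀ i, Module.Flat P (E.X₂.X i)]
    (Fil : ℕ → ∀ i, Submodule P (E.X₂.X i)) (n₀ : ℕ)
    (hrange : ∀ i, LinearMap.range (E.f.f i).hom = Fil n₀ i)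
    (hanti : ∀ n, n₀ ≤ n → ∀ i, Fil n i ≤ Fil n₀ i)
    (hJ : ∀ i, J ^ n₀ • (⊤ : Submodule P (E.X₂.X i)) ≤ Fil n₀ i)
    (hdeep : ∀ m i, ∃ n, n₀ ≤ n ∧ Fil n i ≤ J ^ m • (⊤ : Submodule P (E.X₂.X i)))
    (hgr : ∀ i n, n₀ ≤ n → ∀ z ∈ Fil n (i + 1), E.X₂.d (i + 1) (i + 2) z = 0 →
      ∃ a ∈ Fil n i, z - E.X₂.d i (i + 1) a ∈ Fil (n + 1) (i + 1))
    (a b : ℤ) (ha : ∀ n, n < a → IsZero (E.X₂.X n)) (hb : ∀ n, b < n → IsZero (E.X₂.X n)) :
    TorGE a (((ModuleCat.restrictScalars (algebraMap R P)).mapHomologicalComplex (ComplexShape.up ℤ)).obj E.X₃) := by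
  obtain ⟨φ, hφ, -⟩ := K224.EF.exists_flat_model J E hE Fil n₀ hrange hanti hJ hdeep (by
    intro i n hn z hz h0
    obtain ⟨i, rfl⟩ : ∃ j, i = j + 1 := ⟨i - 1, by omega⟩
    have h1 : (ComplexShape.up ℤ).next (i + 1) = i + 2 := by
      rw [CochainComplex.next]; omega
    have h2 : (ComplexShape.up ℤ).prev (i + 1) = i := by
      rw [CochainComplex.prev]; omega
    rw [h1] at h0
    rw [h2]
    exact hgr i n hn z hz h0)
  exact torGE_res_of_quasiIso φ (fun n => K224.EF.flat_loc _ _) a b
    (fun n hn => K224.EF.isZero_loc _ _ (ha n hn)) (fun n hn => K224.EF.isZero_loc _ _ (hb n hn))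

end truncated

end Groth.Agent.ResProp.EF.K454
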