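import Groth.Agent.ResProp.EF.K454.GrSes
import Groth.Agent.ResProp.EF.K454.KosK0
import Groth.Agent.ResProp.EF.K454.TorFlat
import Groth.Agent.ResProp.EF.K734.Koz

/-!
# 4.1: the truncated Koszul complex has Tor-amplitude `≥ -e` over `R`

`KosHyp`: the hypotheses on `(P, F, w, φ)`; `zp`: the projections to the cohomological degrees;
`torGE_koz`: `TorGE (-e)` of the complex of `kozFD F G φ hφ k` for all `k ≥ k₀`.
-/

set_option autoImplicit false
set_option backward.defeqAttrib.useBackward true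
set_option backward.isDefEq.respectTransparency false

universe u

open CategoryTheory CategoryTheory.Limits CategoryTheory.Idempotents

namespace Groth.Agent.ResProp.EF.K454

open Groth.Agent.ResProp.EF.K734
open Groth.Agent.ResProp.EF.K224.Kos (KA eb wt FilK mem_FilK eb_insert_of_lt FilK_le_iff FilK_le_of smul_eb_mem eb_mem
  smul_mem_FilK mul_mem_FilK ι_mem FilE mem_FilE FilK_anti single_mem units_smul_mem wt_insert)
open Groth.Agent.ResProp.EF.K294

section proj

variable {P M : Type u} [CommRing P] [AddCommGroup M] [Module P M]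

theorem kproj_kproj (i j : ℕ) (z : ExteriorAlgebra P M) : kproj i (kproj j z) = if i = j then kproj j z else 0 := by
  have hz : kproj j z ∈ ⋀[P]^j M := by
    rw [kproj, GradedAlgebra.proj_apply]
    exact SetLike.coe_mem _
  rw [kproj, GradedAlgebra.proj_apply, DirectSum.decompose_of_mem (fun i : ℕ => ⋀[P]^i M) hz]
  by_cases h : i = j
  · subst h
    rw [if_pos rfl, DirectSum.of_eq_same]
  · rw [if_neg h, DirectSum.of_eq_of_ne _ _ _ h]; simp

theorem kd_kproj_zero (w : Module.Dual P M) (z : ExteriorAlgebra P M) : kd w (kproj 0 z) = 0 := by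
  induction z using left_ind with
  | h0 x => rw [kproj_algebraMap, if_pos rfl, kd_algebraMap]
  | h1 y z hy hz => rw [map_add, map_add, hy, hz, add_zero]
  | h2 v z hz => rw [kproj_ι_mul_zero, map_zero]

variable (P M) in
/-- projection to the cohomological degree `n`: exterior degree `-n` -/
noncomputable def zp (n : ℤ) : ExteriorAlgebra P M →ₗ[P] ExteriorAlgebra P M := if 0 < n then 0 else kproj (-n).toNat

theorem zp_pos {n : ℤ} (h : 0 < n) : zp P M n = 0 := if_pos h

theorem zp_neg (r : ℕ) : zp P M (-r) = kproj r := by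
  rw [zp, if_neg (by omega)]
  congr 1
  omega

theorem zp_zp (n : ℤ) (z : ExteriorAlgebra P M) : zp P M n (zp P M n z) = zp P M n z := by
  rw [zp]
  split_ifs with h
  · rfl
  · rw [kproj_kproj, if_pos rfl]

theorem zp_kd (w : Module.Dual P M) (n : ℤ) (z : ExteriorAlgebra P M) : kd w (zp P M n z) = zp P M (n + 1) (kd w z) := by
  rcases lt_trichotomy n 0 with h | h | h
  · obtain ⟨r, rfl⟩ : ∃ r : ℕ, n = -((r + 1 : ℕ) : ℤ) := ⟨(-n).toNat - 1, by omega⟩
    have h1 : -((r + 1 : ℕ) : ℤ) + 1 = -(r : ℤ) := by push_cast; ring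
    rw [h1, zp_neg, zp_neg, kproj_kd]
  · subst h
    have h1 : zp P M 0 = kproj 0 := by
      have := zp_neg (P := P) (M := M) 0
      simpa using this
    rw [h1, zp_pos (by omega), kd_kproj_zero]
    rfl
  · rw [zp_pos h, zp_pos (by omega), LinearMap.zero_apply, LinearMap.zero_apply, map_zero]

end proj

section eb

variable {P : Type u} [CommRing P] {e : ℕ}

theorem kproj_eb (r : ℕ) (I : Finset (Fin e)) : kproj r (eb P e I) = if r = I.card then eb P e I else 0 := by
  classical
  induction I using Finset.induction_on generalizing r with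
  | empty =>
    rw [Groth.Agent.ResProp.EF.K224.Kos.eb_empty, Finset.card_empty, ← map_one (algebraMap P (KA P e)), kproj_algebraMap]
  | insert i I hi ih =>
    obtain ⟨s, hs⟩ := eb_insert_of_lt (P := P) hi
    rw [hs, Finset.card_insert_of_notMem hi, Units.smul_def, map_zsmul]
    cases r with
    | zero => rw [kproj_ι_mul_zero, smul_zero, if_neg (by omega)]
    | succ r =>
      rw [kproj_ι_mul_succ, ih]
      by_cases h : r = I.card
      · rw [if_pos h, if_pos (by omega)]
      · rw [if_neg h, if_neg (by omega), mul_zero, smul_zero]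

theorem kproj_eq_zero {r : ℕ} (hr : e < r) (z : KA P e) : kproj r z = 0 := by
  rw [← (eb P e).sum_repr z, map_sum]
  refine Finset.sum_eq_zero fun I _ => ?_
  rw [map_smul, kproj_eb, if_neg, smul_zero]
  have := Finset.card_le_univ I
  rw [Fintype.card_fin] at this
  omega

theorem zp_eq_zero {n : ℤ} (hn : n < -e ∨ 0 < n) (z : KA P e) : zp P (Fin e → P) n z = 0 := by
  rcases hn with hn | hn
  · obtain ⟨r, rfl⟩ : ∃ r : ℕ, n = -(r : ℤ) := ⟨(-n).toNat, by omega⟩
    rw [zp_neg]
    exact kproj_eq_zero (by omega) z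
  · rw [zp_pos hn]
    rfl

end eb

section filA

variable {P : Type u} [CommRing P] {e : ℕ} (F : K734.MFil P) (w : Fin e → ℕ)

theorem MFil.toK : Groth.Agent.ResProp.EF.K224.Kos.MFil F.F := ⟨F.zero, fun _ _ h => F.le h, F.mul⟩

/-- the weighted filtration of `P^e` -/
def MFil.pow : MFilM F (Fin e → P) where
  G := FilE F.F w
  zero := by
    rw [eq_top_iff]
    intro v _ i
    rw [Nat.zero_sub, F.zero]
    trivial
  succ n := fun v hv i => F.le (by omega) (hv i)
  smul m n x v hx hv i := F.le (by omega) (F.mul m (n - w i) x (v i) hx (hv i))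

/-- `filA` is `FilK` -/
theorem filA_eq (G : MFilM F (Fin e → P)) (hG : ∀ b, G.G b = FilE F.F w b) (m : ℕ) : filA F G m = FilK F.F w m := by
  have h := MFil.toK F
  apply le_antisymm
  · intro z hz
    rw [mem_filA] at hz
    induction hz with
    | zero m => exact zero_mem _
    | add m y z _ _ hy hz => exact add_mem hy hz
    | alg m x hx =>
      rw [Algebra.algebraMap_eq_smul_one]
      exact smul_mem_FilK h hx (Groth.Agent.ResProp.EF.K224.Kos.one_mem_FilK h)
    | ι_mul b m v z hv _ hz =>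
      rw [hG] at hv
      exact mul_mem_FilK h (ι_mem b hv) hz
    | down m z _ hz => exact FilK_anti h (Nat.le_succ m) hz
  · refine FilK_le_of h (fun m => filA F G m) ?_ ?_ ?_ ?_ m
    · rw [filA_zero]; trivial
    · exact antitone_nat_of_succ_le (filA_succ F G)
    · intro a m c hc x hx
      exact IsF.smul hc hx
    · intro i m x hx
      refine IsF.ι_mul _ _ _ _ ?_ hx
      rw [hG]
      exact single_mem h i

end filA

section totals

variable {P : Type u} [CommRing P] {M : Type u} [AddCommGroup M] [Module P M] (φ : Module.Dual P M)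

/-- the Koszul complex as a total module -/
noncomputable def kosG : GrObj (ModuleCat.{u} P) where
  K := ModuleCat.of P (ExteriorAlgebra P M)
  d := ModuleCat.ofHom (kd φ)
  p n := ModuleCat.ofHom (zp P M n)
  idem n := by
    apply ModuleCat.hom_ext
    apply LinearMap.ext
    exact zp_zp n
  comm n := by
    apply ModuleCat.hom_ext
    apply LinearMap.ext
    exact zp_kd φ n
  dd := by
    apply ModuleCat.hom_ext
    apply LinearMap.ext
    exact kd_kd φ

variable (N : Submodule P (ExteriorAlgebra P M)) (hd : ∀ z ∈ N, kd φ z ∈ N) (hp : ∀ n, ∀ z ∈ N, zp P M n z ∈ N)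

/-- a stable submodule -/
noncomputable def kosSub : GrObj (ModuleCat.{u} P) where
  K := ModuleCat.of P N
  d := ModuleCat.ofHom ((kd φ).restrict hd)
  p n := ModuleCat.ofHom ((zp P M n).restrict (hp n))
  idem n := by
    apply ModuleCat.hom_ext
    apply LinearMap.ext
    intro z
    exact Subtype.ext (zp_zp n z.1)
  comm n := by
    apply ModuleCat.hom_ext
    apply LinearMap.ext
    intro z
    exact Subtype.ext (zp_kd φ n z.1)
  dd := by
    apply ModuleCat.hom_ext
    apply LinearMap.ext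
    intro z
    exact Subtype.ext (kd_kd φ z.1)

/-- the quotient by a stable submodule -/
noncomputable def kosQuot : GrObj (ModuleCat.{u} P) where
  K := ModuleCat.of P (ExteriorAlgebra P M ⧸ N)
  d := ModuleCat.ofHom (N.mapQ N (kd φ) hd)
  p n := ModuleCat.ofHom (N.mapQ N (zp P M n) (hp n))
  idem n := by
    apply ModuleCat.hom_ext
    apply LinearMap.ext
    intro z
    obtain ⟨z, rfl⟩ := N.mkQ_surjective z
    exact congrArg N.mkQ (zp_zp n z)
  comm n := by
    apply ModuleCat.hom_ext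
    apply LinearMap.ext
    intro z
    obtain ⟨z, rfl⟩ := N.mkQ_surjective z
    exact congrArg N.mkQ (zp_kd φ n z)
  dd := by
    apply ModuleCat.hom_ext
    apply LinearMap.ext
    intro z
    obtain ⟨z, rfl⟩ := N.mkQ_surjective z
    exact congrArg N.mkQ (kd_kd φ z)

/-- the inclusion -/
noncomputable def kosIncl : kosSub φ N hd hp ⟶ kosG φ := ⟨ModuleCat.ofHom N.subtype, by
  apply ModuleCat.hom_ext
  apply LinearMap.ext
  intro z
  rfl, fun n => by
  apply ModuleCat.hom_ext
  apply LinearMap.ext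
  intro z
  rfl⟩

/-- the projection -/
noncomputable def kosProj : kosG φ ⟶ kosQuot φ N hd hp := ⟨ModuleCat.ofHom N.mkQ, by
  apply ModuleCat.hom_ext
  apply LinearMap.ext
  intro z
  rfl, fun n => by
  apply ModuleCat.hom_ext
  apply LinearMap.ext
  intro z
  rfl⟩

theorem kos_shortExact : ∃ h : GrObj.cxMap (kosIncl φ N hd hp) ≫ GrObj.cxMap (kosProj φ N hd hp) = 0,
    (ShortComplex.mk (GrObj.cxMap (kosIncl φ N hd hp)) (GrObj.cxMap (kosProj φ N hd hp)) h).ShortExact := by
  refine GrObj.shortExact_cx _ _ ?_ ?_ ?_ ?_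
  · apply GrObj.Hom.ext
    apply ModuleCat.hom_ext
    apply LinearMap.ext
    intro z
    exact (Submodule.Quotient.mk_eq_zero N).2 z.2
  · exact Subtype.val_injective
  · intro y
    change N.mkQ y = 0 ↔ _
    rw [Submodule.mkQ_apply, Submodule.Quotient.mk_eq_zero]
    exact ⟨fun h => ⟨⟨y, h⟩, rfl⟩, fun ⟨z, hz⟩ => by rw [← hz]; exact z.2⟩
  · exact N.mkQ_surjective

end totals

section main

variable {R P : Type u} [CommRing R] [CommRing P] [Algebra R P] {e : ℕ}

/-- the hypotheses of 4.1 on the filtered ring `P` (Noetherian, flat over `R`), the weights and the elements `u j = φ (e_j)` -/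
structure KosHyp (F : K734.MFil P) (w : Fin e → ℕ) (G : MFilM F (Fin e → P)) (φ : Module.Dual P (Fin e → P))
    (J J2 : Ideal P) : Prop where
  h21 : J2 ≤ J
  hJ : J ≤ F.F 1
  hJ2 : J2 ≤ F.F 2
  hgen : ∀ n, F.F n ≤ filJ J J2 n
  hG : ∀ b, G.G b = FilE F.F w b
  hφ : ∀ b v, v ∈ G.G b → φ v ∈ F.F b
  hu : ∀ (n : ℕ), 1 ≤ n → ∀ r ∈ F.F n, ∃ b : Fin e → P, (∀ j, b j ∈ F.F (n - w j)) ∧
      r - ∑ j, φ (Pi.single j 1) * b j ∈ F.F (n + 1)

variable {F : K734.MFil P} {w : Fin e → ℕ} {G : MFilM F (Fin e → P)} {φ : Module.Dual P (Fin e → P)} {J J2 : Ideal P}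

theorem zp_mem (F : K734.MFil P) (G : MFilM F (Fin e → P)) (m : ℕ) (n : ℤ) (z : KA P e) (hz : z ∈ filA F G m) :
    zp P (Fin e → P) n z ∈ filA F G m := by
  rw [zp]
  split_ifs
  · exact zero_mem _
  · exact kproj_mem F G hz _

theorem KosHyp.kd_mem (h : KosHyp F w G φ J J2) (m : ℕ) (z : KA P e) (hz : z ∈ filA F G m) : kd φ z ∈ filA F G m :=
  Groth.Agent.ResProp.EF.K734.kd_mem F G φ h.hφ hz

/-- the graded acyclicity in large weights -/
theorem KosHyp.exists_k0 [IsNoetherianRing P] (h : KosHyp F w G φ J J2) : ∃ k₀ : ℕ, ∀ n, k₀ < n → ∀ z ∈ filA F G n,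
    kd φ z ∈ filA F G (n + 1) → ∃ y ∈ filA F G n, z - kd φ y ∈ filA F G (n + 1) := by
  obtain ⟨k₀, hk⟩ := Groth.Agent.ResProp.EF.K454.exists_k0 (MFil.toK F) J J2 h.h21 h.hJ h.hJ2 h.hgen w φ h.hu
  refine ⟨k₀, fun n hn z hz hdz => ?_⟩
  simp only [filA_eq F w G h.hG] at hz hdz ⊢
  exact hk n hn z hz hdz

theorem gr_step {k : ℕ}
    (hk : ∀ n, k < n → ∀ z ∈ filA F G n, kd φ z ∈ filA F G (n + 1) → ∃ y ∈ filA F G n, z - kd φ y ∈ filA F G (n + 1))
    (i : ℤ) (n : ℕ) (hn : k < n) (z : (kosG φ).X (i + 1)) (hz : ((kosG φ).ι (i + 1)).hom z ∈ filA F G n)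
    (h0' : ((kosG φ).δ (i + 1)).hom z = 0) :
    ∃ a : (kosG φ).X i, ((kosG φ).ι i).hom a ∈ filA F G n ∧
      ((kosG φ).ι (i + 1)).hom (z - ((kosG φ).δ i).hom a) ∈ filA F G (n + 1) := by
  have hdz : kd φ (((kosG φ).ι (i + 1)).hom z) = 0 := by
    have h1 := (kosG φ).δ_apply (i + 1) z
    rw [h0', map_zero] at h1
    exact h1.symm
  obtain ⟨y, hy, hy'⟩ := hk n hn (((kosG φ).ι (i + 1)).hom z) hz (by rw [hdz]; exact zero_mem _)
  refine ⟨((kosG φ).π i).hom y, ?_, ?_⟩
  · rw [GrObj.ι_π_apply]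
    exact zp_mem F G n i y hy
  · have e1 : ((kosG φ).ι (i + 1)).hom (((kosG φ).δ i).hom (((kosG φ).π i).hom y)) =
        zp P (Fin e → P) (i + 1) (kd φ y) := by
      have a1 := (kosG φ).δ_apply i (((kosG φ).π i).hom y)
      rw [(kosG φ).ι_π_apply i y] at a1
      exact a1.trans ((kosG φ).comm_apply i y)
    have e2 : ((kosG φ).ι (i + 1)).hom z = zp P (Fin e → P) (i + 1) (((kosG φ).ι (i + 1)).hom z) :=
      ((kosG φ).p_ι_apply (i + 1) z).symm
    have e4 := zp_mem F G (n + 1) (i + 1) _ hy'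
    rw [map_sub] at e4
    have e5 : ((kosG φ).ι (i + 1)).hom (z - ((kosG φ).δ i).hom (((kosG φ).π i).hom y)) =
        ((kosG φ).ι (i + 1)).hom z - ((kosG φ).ι (i + 1)).hom (((kosG φ).δ i).hom (((kosG φ).π i).hom y)) :=
      map_sub _ _ _
    rw [e5, e1, e2]
    exact e4

/-- **4.1, over `P`**: for `k ≥ k₀` -/
theorem torGE_kosQuot [IsNoetherianRing P] [Module.Flat R P] (h : KosHyp F w G φ J J2) (k : ℕ)
    (hk : ∀ n, k < n → ∀ z ∈ filA F G n, kd φ z ∈ filA F G (n + 1) → ∃ y ∈ filA F G n, z - kd φ y ∈ filA F G (n + 1)) :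
    TorGE (-e : ℤ) (((ModuleCat.restrictScalars (algebraMap R P)).mapHomologicalComplex (ComplexShape.up ℤ)).obj
      (kosQuot φ (filA F G (k + 1)) (h.kd_mem (k + 1)) (fun n => zp_mem F G (k + 1) n)).cx) := by
  obtain ⟨h0, hS⟩ := kos_shortExact φ (filA F G (k + 1)) (h.kd_mem (k + 1)) (fun n => zp_mem F G (k + 1) n)
  have hfin : ∀ i, Module.Finite P ((kosG φ).X i) := fun i =>
    Module.Finite.of_surjective (M := KA P e) ((kosG φ).π i).hom (fun x => ⟨((kosG φ).ι i).hom x, (kosG φ).π_ι_apply i x⟩)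
  have hflat : ∀ i, Module.Flat P ((kosG φ).X i) := fun i =>
    Module.Flat.of_retract (M := KA P e) ((kosG φ).ι i).hom ((kosG φ).π i).hom (by
      apply LinearMap.ext
      intro x
      exact (kosG φ).π_ι_apply i x)
  have hzero : ∀ n : ℤ, n < -e ∨ 0 < n → IsZero ((kosG φ).X n) := by
    intro n hn
    have : Subsingleton ((kosG φ).X n) := by
      refine ⟨fun x y => (kosG φ).ι_inj n ?_⟩
      rw [← (kosG φ).p_ι_apply n x, ← (kosG φ).p_ι_apply n y]
      change zp P (Fin e → P) n _ = zp P (Fin e → P) n _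
      rw [zp_eq_zero hn, zp_eq_zero hn]
    exact ModuleCat.isZero_of_subsingleton _
  have hfin' : ∀ i, Module.Finite P ((ShortComplex.mk _ _ h0).X₂.X i) := hfin
  have hflat' : ∀ i, Module.Flat P ((ShortComplex.mk _ _ h0).X₂.X i) := hflat
  refine torGE_of_truncated (R := R) J (ShortComplex.mk _ _ h0) hS
    (fun n i => (filA F G n).comap ((kosG φ).ι i).hom) (k + 1) ?_ ?_ ?_ ?_ ?_ (-e : ℤ) 0
    (fun n hn => hzero n (Or.inl hn)) (fun n hn => hzero n (Or.inr hn))
  · intro i
    ext x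
    constructor
    · rintro ⟨y, rfl⟩
      change ((kosG φ).ι i).hom ((GrObj.mapX (kosIncl φ _ _ _) i).hom y) ∈ filA F G (k + 1)
      rw [GrObj.mapX_apply]
      exact Subtype.coe_prop _
    · intro hx
      refine ⟨(GrObj.π (kosSub φ (filA F G (k + 1)) (h.kd_mem (k + 1)) (fun n => zp_mem F G (k + 1) n)) i).hom
        ⟨((kosG φ).ι i).hom x, hx⟩, (kosG φ).ι_inj i ?_⟩
      change ((kosG φ).ι i).hom ((GrObj.mapX (kosIncl φ _ _ _) i).hom _) = _
      rw [GrObj.mapX_apply, GrObj.ι_π_apply, GrObj.hp_apply]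
      exact (kosG φ).p_ι_apply i x
  · intro n hn i x hx
    have hanti : Antitone (filA F G) := antitone_nat_of_succ_le (filA_succ F G)
    exact hanti hn hx
  · intro i
    rw [Submodule.smul_le]
    intro r hr x _
    change ((kosG φ).ι i).hom (r • x) ∈ filA F G (k + 1)
    rw [map_smul, filA_eq F w G h.hG]
    exact pow_smul_le_FilK (MFil.toK F) J h.hJ w (k + 1) (Submodule.smul_mem_smul hr trivial)
  · intro m i
    refine ⟨k + 1 + (2 * m + ∑ i, w i), by omega, fun x hx => ?_⟩
    have h1 : ((kosG φ).ι i).hom x ∈ J ^ m • (⊤ : Submodule P (KA P e)) := by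
      apply FilK_le_pow (MFil.toK F) J J2 h.h21 h.hgen w m
      rw [← filA_eq F w G h.hG]
      have hanti : Antitone (filA F G) := antitone_nat_of_succ_le (filA_succ F G)
      exact hanti (by omega) hx
    have h2 := Submodule.mem_map_of_mem (f := ((kosG φ).π i).hom) h1
    rw [Submodule.map_smul''] at h2
    have h3 : ((kosG φ).π i).hom (((kosG φ).ι i).hom x) = x := (kosG φ).π_ι_apply i x
    rw [h3] at h2
    exact Submodule.smul_mono le_rfl le_top h2
  · intro i n hn z hz h0'
    obtain ⟨a, ha, ha'⟩ := gr_step hk i n (by omega) z hz (by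
      have h3 := (kosG φ).cx_d (i + 1)
      rw [← h3]
      have h4 : i + 1 + 1 = i + 2 := by ring
      rw [h4]
      exact h0')
    refine ⟨a, ha, ?_⟩
    change ((kosG φ).ι (i + 1)).hom (z - ((kosG φ).cx.d i (i + 1)).hom a) ∈ filA F G (n + 1)
    rw [(kosG φ).cx_d i]
    exact ha'

end main

end Groth.Agent.ResProp.EF.K454
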