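import Mathlib.Algebra.Polynomial.Module.Basic
import Mathlib.RingTheory.Polynomial.Basic
import Mathlib.RingTheory.FiniteType
import Mathlib.Tactic.LinearCombination
import Mathlib.Tactic.Abel

/-!
# Rees algebras of multiplicative filtrations; acyclicity of the graded Koszul complex in large weights

4.1 of departures/helper980.md (third version), part (B), in abstract form: no exterior algebra.
-/

set_option autoImplicit false

open Polynomial

namespace Groth.Agent.ResProp.EF.K454

/-- multiplicative filtration by ideals -/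
structure MulFil {P : Type*} [CommRing P] (Fil : ℕ → Ideal P) : Prop where
  zero : Fil 0 = ⊤
  anti : Antitone Fil
  mul : ∀ {a b : ℕ} {x y : P}, x ∈ Fil a → y ∈ Fil b → x * y ∈ Fil (a + b)

section

variable {P : Type*} [CommRing P] {Fil : ℕ → Ideal P}

/-- the Rees algebra -/
def rees (h : MulFil Fil) : Subalgebra P P[X] where
  carrier := {f | ∀ n, f.coeff n ∈ Fil n}
  mul_mem' {f g} hf hg n := by
    rw [coeff_mul]
    refine sum_mem fun x hx => ?_
    rw [← Finset.mem_antidiagonal.1 hx]
    exact h.mul (hf _) (hg _)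
  add_mem' {f g} hf hg n := by
    rw [coeff_add]
    exact add_mem (hf n) (hg n)
  algebraMap_mem' r n := by
    rw [Polynomial.algebraMap_apply, Algebra.algebraMap_self_apply, coeff_C]
    split_ifs with h0
    · subst h0
      rw [h.zero]
      trivial
    · exact zero_mem _

theorem mem_rees (h : MulFil Fil) {f : P[X]} : f ∈ rees h ↔ ∀ n, f.coeff n ∈ Fil n := Iff.rfl

theorem monomial_mem_rees (h : MulFil Fil) {n : ℕ} {r : P} (hr : r ∈ Fil n) : monomial n r ∈ rees h := by
  intro m
  rw [coeff_monomial]
  split_ifs with h0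
  · rw [← h0]; exact hr
  · exact zero_mem _

variable {K : Type*} [AddCommGroup K] [Module P K]

/-- compatible filtration of a module -/
structure ModFil (Fil : ℕ → Ideal P) (F : ℕ → Submodule P K) : Prop where
  anti : Antitone F
  smul : ∀ {a b : ℕ} {x : P} {y : K}, x ∈ Fil a → y ∈ F b → x • y ∈ F (a + b)

/-- the Rees module -/
def reesM (h : MulFil Fil) {F : ℕ → Submodule P K} (hF : ModFil Fil F) : Submodule (rees h) (PolynomialModule P K) where
  carrier := {f | ∀ n, f.coeff n ∈ F n}
  zero_mem' n := by simp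
  add_mem' {f g} hf hg n := by
    rw [PolynomialModule.coeff_add, Finsupp.add_apply]
    exact add_mem (hf n) (hg n)
  smul_mem' r f hf n := by
    change ((r : P[X]) • f).coeff n ∈ F n
    rw [PolynomialModule.smul_apply]
    refine sum_mem fun x hx => ?_
    rw [← Finset.mem_antidiagonal.1 hx]
    exact hF.smul (r.2 _) (hf _)

theorem mem_reesM (h : MulFil Fil) {F : ℕ → Submodule P K} (hF : ModFil Fil F) {f : PolynomialModule P K} :
    f ∈ reesM h hF ↔ ∀ n, f.coeff n ∈ F n := Iff.rfl

/-- the Rees module of the elements whose `d` is in the next step -/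
def reesZ (h : MulFil Fil) {F : ℕ → Submodule P K} (hF : ModFil Fil F) (d : K →ₗ[P] K) :
    Submodule (rees h) (PolynomialModule P K) where
  carrier := {f | ∀ n, f.coeff n ∈ F n ∧ d (f.coeff n) ∈ F (n + 1)}
  zero_mem' n := by simp
  add_mem' {f g} hf hg n := by
    rw [PolynomialModule.coeff_add, Finsupp.add_apply, map_add]
    exact ⟨add_mem (hf n).1 (hg n).1, add_mem (hf n).2 (hg n).2⟩
  smul_mem' r f hf n := by
    change ((r : P[X]) • f).coeff n ∈ F n ∧ d (((r : P[X]) • f).coeff n) ∈ F (n + 1)
    rw [PolynomialModule.smul_apply, map_sum]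
    refine ⟨sum_mem fun x hx => ?_, sum_mem fun x hx => ?_⟩
    · rw [← Finset.mem_antidiagonal.1 hx]
      exact hF.smul (r.2 _) (hf _).1
    · rw [map_smul, ← Finset.mem_antidiagonal.1 hx, add_assoc]
      exact hF.smul (r.2 _) (hf _).2

theorem reesZ_le (h : MulFil Fil) {F : ℕ → Submodule P K} (hF : ModFil Fil F) (d : K →ₗ[P] K) :
    reesZ h hF d ≤ reesM h hF := fun _ hf n => (hf n).1

/-- **(B)** acyclicity of the graded Koszul complex in large weights, abstract form. -/
theorem exists_graded_exact (h : MulFil Fil) {F : ℕ → Submodule P K} (hF : ModFil Fil F)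
    [IsNoetherianRing (rees h)] (hfg : (reesM h hF).FG) (d : K →ₗ[P] K)
    {ι : Type*} [Fintype ι] (w : ι → ℕ) (u : ι → P) (e : ι → K →ₗ[P] K)
    (he : ∀ (j : ι) (n : ℕ) (z : K), z ∈ F n → e j z ∈ F (n + w j))
    (hde : ∀ (j : ι) (z : K), d (e j z) + e j (d z) = u j • z)
    (hu : ∀ (n : ℕ), 1 ≤ n → ∀ r ∈ Fil n, ∃ b : ι → P, (∀ j, b j ∈ Fil (n - w j)) ∧ r - ∑ j, u j * b j ∈ Fil (n + 1)) :
    ∃ k₀ : ℕ, ∀ n, k₀ < n → ∀ z ∈ F n, d z ∈ F (n + 1) → ∃ y ∈ F n, z - d y ∈ F (n + 1) := by
  classical
  have hN : IsNoetherian (rees h) (reesM h hF) := isNoetherian_of_fg_of_noetherian _ hfg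
  have hZ : (reesZ h hF d).FG := by
    have h1 := (isNoetherian_submodule.1 hN) (reesZ h hF d) (reesZ_le h hF d)
    exact h1
  obtain ⟨G, hG⟩ := hZ
  have hGZ : ∀ g ∈ G, g ∈ reesZ h hF d := fun g hg => by
    rw [← hG]; exact Submodule.subset_span hg
  -- a bound for the degrees of the generators
  let N : ℕ := G.sup fun g => g.coeff.support.sup id
  have hNb : ∀ g ∈ G, ∀ m, N < m → g.coeff m = 0 := by
    intro g hg m hm
    by_contra hne
    have h1 : m ≤ g.coeff.support.sup id := Finset.le_sup (f := id) (Finsupp.mem_support_iff.2 hne)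
    have h2 : g.coeff.support.sup id ≤ N := Finset.le_sup (f := fun g : PolynomialModule P K => g.coeff.support.sup id) hg
    omega
  refine ⟨N, fun n hn z hz hdz => ?_⟩
  have hz' : PolynomialModule.single P n z ∈ Submodule.span (rees h) (G : Set (PolynomialModule P K)) := by
    rw [hG]
    intro m
    rw [PolynomialModule.coeff_single]
    by_cases hm : m = n
    · subst hm
      rw [Finsupp.single_eq_same]
      exact ⟨hz, hdz⟩
    · rw [Finsupp.single_eq_of_ne hm, map_zero]
      exact ⟨zero_mem _, zero_mem _⟩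
  obtain ⟨c, hc⟩ := Submodule.mem_span_finset'.1 hz'
  have hc' := congrArg (fun f : PolynomialModule P K => f.coeff n) hc
  simp only [PolynomialModule.coeff_single, Finsupp.single_eq_same] at hc'
  -- the predicate
  let C : K → Prop := fun x => ∃ y ∈ F n, x - d y ∈ F (n + 1)
  have C0 : C 0 := ⟨0, zero_mem _, by simp⟩
  have Cadd : ∀ x x', C x → C x' → C (x + x') := by
    rintro x x' ⟨y, hy, hy'⟩ ⟨y', hy1, hy1'⟩
    refine ⟨y + y', add_mem hy hy1, ?_⟩
    rw [map_add]
    have : x + x' - (d y + d y') = (x - d y) + (x' - d y') := by abel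
    rw [this]
    exact add_mem hy' hy1'
  have Csum1 : ∀ (s : Finset (ℕ × ℕ)) (x : ℕ × ℕ → K), (∀ a ∈ s, C (x a)) → C (∑ a ∈ s, x a) := by
    intro s x hx
    induction s using Finset.induction_on with
    | empty => simpa using C0
    | insert a s ha ih =>
      rw [Finset.sum_insert ha]
      exact Cadd _ _ (hx a (Finset.mem_insert_self _ _)) (ih fun b hb => hx b (Finset.mem_insert_of_mem hb))
  have Csum2 : ∀ (s : Finset {g // g ∈ (G : Set (PolynomialModule P K))})
      (x : {g // g ∈ (G : Set (PolynomialModule P K))} → K), (∀ a ∈ s, C (x a)) → C (∑ a ∈ s, x a) := by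
    intro s x hx
    induction s using Finset.induction_on with
    | empty => simpa using C0
    | insert a s ha ih =>
      rw [Finset.sum_insert ha]
      exact Cadd _ _ (hx a (Finset.mem_insert_self _ _)) (ih fun b hb => hx b (Finset.mem_insert_of_mem hb))
  -- the terms
  have hterm : ∀ i m : ℕ, i + m = n → 1 ≤ i → ∀ r ∈ Fil i, ∀ g ∈ F m, d g ∈ F (m + 1) → C (r • g) := by
    intro i m him hi r hr g hg hdg
    obtain ⟨b, hb, hb'⟩ := hu i hi r hr
    refine ⟨∑ j, b j • e j g, sum_mem fun j _ => ?_, ?_⟩
    · refine hF.anti ?_ (hF.smul (hb j) (he j m g hg))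
      omega
    · have h1 : r • g - d (∑ j, b j • e j g) = (r - ∑ j, u j * b j) • g + ∑ j, b j • e j (d g) := by
        have h2 : ∀ j, b j • d (e j g) = (u j * b j) • g - b j • e j (d g) := by
          intro j
          have := hde j g
          rw [eq_sub_iff_add_eq, ← smul_add, this, smul_smul, mul_comm]
        rw [map_sum]
        simp only [map_smul, h2, Finset.sum_sub_distrib, sub_smul, Finset.sum_smul]
        abel
      rw [h1]
      refine add_mem (hF.anti ?_ (hF.smul hb' hg)) (sum_mem fun j _ => hF.anti ?_ (hF.smul (hb j) (he j _ _ hdg)))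
      · omega
      · omega
  have hfin : C z := by
    rw [← hc']
    have h1 : (∑ a : (G : Set (PolynomialModule P K)), c a • (a : PolynomialModule P K)).coeff n =
        ∑ a : (G : Set (PolynomialModule P K)), ∑ x ∈ Finset.antidiagonal n,
          ((c a : rees h) : P[X]).coeff x.1 • (a : PolynomialModule P K).coeff x.2 := by
      rw [PolynomialModule.coeff_sum, Finsupp.finsetSum_apply]
      refine Finset.sum_congr rfl fun a _ => ?_
      exact PolynomialModule.smul_apply _ _ _
    have h2 : C (∑ a : (G : Set (PolynomialModule P K)), ∑ x ∈ Finset.antidiagonal n,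
          ((c a : rees h) : P[X]).coeff x.1 • (a : PolynomialModule P K).coeff x.2) := by
      refine Csum2 _ _ fun a _ => Csum1 _ _ fun x hx => ?_
      have hx' := Finset.mem_antidiagonal.1 hx
      by_cases h3 : N < x.2
      · rw [hNb a a.2 _ h3, smul_zero]
        exact C0
      · refine hterm x.1 x.2 hx' (by omega) _ ((c a).2 _) _ ((hGZ a a.2) _).1 ((hGZ a a.2) _).2
    rw [← h1] at h2
    exact h2
  exact hfin

end

end Groth.Agent.ResProp.EF.K454
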