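import Groth.Agent.ResProp.EF.K454.Rees
import Mathlib.RingTheory.Adjoin.FG
import Mathlib.RingTheory.Noetherian.Basic

/-!
# The Rees algebra of `Fil n = ∑_{a + 2b ≥ n} J^a J₂^b` is Noetherian; finite generation of Rees modules
-/

set_option autoImplicit false

open Polynomial

namespace Groth.Agent.ResProp.EF.K454

section

variable {P : Type*} [CommRing P]

/-- `Fil n = ∑_{a + 2b ≥ n} J^a J₂^b` -/
def filJ (J J2 : Ideal P) (n : ℕ) : Ideal P := ⨆ (a : ℕ) (b : ℕ) (_ : n ≤ a + 2 * b), J ^ a * J2 ^ b

theorem le_filJ (J J2 : Ideal P) {n a b : ℕ} (h : n ≤ a + 2 * b) : J ^ a * J2 ^ b ≤ filJ J J2 n :=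
  le_iSup_of_le a (le_iSup_of_le b (le_iSup_of_le h le_rfl))

theorem filJ_le {J J2 : Ideal P} {n : ℕ} {I : Ideal P} (h : ∀ a b, n ≤ a + 2 * b → J ^ a * J2 ^ b ≤ I) : filJ J J2 n ≤ I :=
  iSup_le fun a => iSup_le fun b => iSup_le fun hab => h a b hab

theorem filJ_mul (J J2 : Ideal P) (m n : ℕ) : filJ J J2 m * filJ J J2 n ≤ filJ J J2 (m + n) := by
  rw [filJ, filJ]
  simp only [Submodule.iSup_mul, Submodule.mul_iSup]
  refine iSup_le fun a => iSup_le fun b => iSup_le fun hab => iSup_le fun a' => iSup_le fun b' => iSup_le fun hab' => ?_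
  have h1 : J ^ a * J2 ^ b * (J ^ a' * J2 ^ b') = J ^ (a + a') * J2 ^ (b + b') := by
    rw [pow_add, pow_add]; ring
  rw [mul_comm] at h1
  rw [h1]
  exact le_filJ J J2 (by omega)

/-- the filtration `filJ` is multiplicative -/
theorem mulFil_filJ (J J2 : Ideal P) : MulFil (filJ J J2) where
  zero := by
    rw [eq_top_iff]
    refine le_trans ?_ (le_filJ J J2 (n := 0) (a := 0) (b := 0) (by omega))
    simp
  anti m n hmn := filJ_le fun a b hab => le_filJ J J2 (hmn.trans hab)
  mul {a b x y} hx hy := filJ_mul J J2 a b (Ideal.mul_mem_mul hx hy)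

theorem filJ_step {J J2 : Ideal P} (h21 : J2 ≤ J) {a b n : ℕ} (h : n + 1 ≤ a + 2 * b) :
    ∃ a' b', a' + 2 * b' + 1 = a + 2 * b ∧ J ^ a * J2 ^ b ≤ J ^ a' * J2 ^ b' := by
  rcases Nat.eq_zero_or_pos a with rfl | ha
  · obtain ⟨b', rfl⟩ : ∃ b', b = b' + 1 := ⟨b - 1, by omega⟩
    refine ⟨1, b', by omega, ?_⟩
    rw [pow_zero, one_mul, pow_one, pow_succ']
    exact Ideal.mul_mono_left h21
  · obtain ⟨a', rfl⟩ : ∃ a', a = a' + 1 := ⟨a - 1, by omega⟩
    exact ⟨a', b, by omega, Ideal.mul_mono_left (Ideal.pow_le_pow_right (Nat.le_succ _))⟩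

/-- **(B1)** the Rees algebra of a filtration generated by `J` in degree 1 and `J₂` in degree 2 is Noetherian. -/
theorem rees_noetherian [IsNoetherianRing P] {Fil : ℕ → Ideal P} (h : MulFil Fil) (J J2 : Ideal P) (h21 : J2 ≤ J)
    (hJ : J ≤ Fil 1) (hJ2 : J2 ≤ Fil 2) (hgen : ∀ n, Fil n ≤ filJ J J2 n) : IsNoetherianRing (rees h) := by
  classical
  obtain ⟨s1, hs1⟩ := (isNoetherian_def.1 (inferInstance : IsNoetherian P P)) J
  obtain ⟨s2, hs2⟩ := (isNoetherian_def.1 (inferInstance : IsNoetherian P P)) J2
  let S : Finset P[X] := s1.image (fun x => monomial 1 x) ∪ s2.image (fun x => monomial 2 x)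
  let A : Subalgebra P P[X] := Algebra.adjoin P (S : Set P[X])
  let T : ℕ → Ideal P := fun n => Submodule.comap (monomial n : P →ₗ[P] P[X]) (Subalgebra.toSubmodule A)
  have hT : ∀ n x, x ∈ T n ↔ monomial n x ∈ A := fun n x => Iff.rfl
  have hTmul : ∀ m n, T m * T n ≤ T (m + n) := by
    intro m n
    rw [Ideal.mul_le]
    intro x hx y hy
    rw [hT] at hx hy ⊢
    rw [← monomial_mul_monomial]
    exact A.mul_mem hx hy
  have hT0 : T 0 = ⊤ := by
    rw [eq_top_iff]
    intro x _
    rw [hT]
    exact A.algebraMap_mem x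
  have hT1 : J ≤ T 1 := by
    rw [← hs1]
    refine Submodule.span_le.2 fun x hx => ?_
    exact Algebra.subset_adjoin (Finset.mem_coe.2 (Finset.mem_union_left _ (Finset.mem_image_of_mem _ hx)))
  have hT2 : J2 ≤ T 2 := by
    rw [← hs2]
    refine Submodule.span_le.2 fun x hx => ?_
    exact Algebra.subset_adjoin (Finset.mem_coe.2 (Finset.mem_union_right _ (Finset.mem_image_of_mem _ hx)))
  have hTa : ∀ a, J ^ a ≤ T a := by
    intro a
    induction a with
    | zero => rw [hT0]; exact le_top
    | succ a ih =>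
      rw [pow_succ]
      exact (Ideal.mul_mono ih hT1).trans (hTmul _ _)
  have hTb : ∀ b, J2 ^ b ≤ T (2 * b) := by
    intro b
    induction b with
    | zero => rw [Nat.mul_zero, hT0]; exact le_top
    | succ b ih =>
      rw [pow_succ]
      exact (Ideal.mul_mono ih hT2).trans (hTmul _ _)
  have hTab : ∀ k n a b, n + k = a + 2 * b → J ^ a * J2 ^ b ≤ T n := by
    intro k
    induction k with
    | zero =>
      intro n a b hn
      have hn' : n = a + 2 * b := by omega
      rw [hn']
      exact (Ideal.mul_mono (hTa a) (hTb b)).trans (hTmul _ _)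
    | succ k ih =>
      intro n a b hn
      obtain ⟨a', b', h1, h2⟩ := filJ_step h21 (a := a) (b := b) (n := n) (by omega)
      exact h2.trans (ih n a' b' (by omega))
  have hFT : ∀ n, Fil n ≤ T n := fun n => (hgen n).trans (filJ_le fun a b hab => hTab (a + 2 * b - n) n a b (by omega))
  have hA : rees h = A := by
    apply le_antisymm
    · intro f hf
      rw [← f.sum_monomial_eq, Polynomial.sum]
      exact sum_mem fun n _ => hFT n (hf n)
    · refine Algebra.adjoin_le ?_
      intro f hf
      rcases Finset.mem_union.1 (Finset.mem_coe.1 hf) with hf | hf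
      · obtain ⟨x, hx, rfl⟩ := Finset.mem_image.1 hf
        exact monomial_mem_rees h (hJ (by rw [← hs1]; exact Submodule.subset_span hx))
      · obtain ⟨x, hx, rfl⟩ := Finset.mem_image.1 hf
        exact monomial_mem_rees h (hJ2 (by rw [← hs2]; exact Submodule.subset_span hx))
  have hfg : (rees h).FG := ⟨S, hA.symm⟩
  exact isNoetherianRing_of_fg hfg

/-- the same with `Fil` equal to `filJ` -/
theorem rees_filJ_noetherian [IsNoetherianRing P] (J J2 : Ideal P) (h21 : J2 ≤ J) :
    IsNoetherianRing (rees (mulFil_filJ J J2)) := by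
  refine rees_noetherian _ J J2 h21 ?_ ?_ fun n => le_rfl
  · refine le_trans (by simp) (le_filJ J J2 (n := 1) (a := 1) (b := 0) (by omega))
  · refine le_trans (by simp) (le_filJ J J2 (n := 2) (a := 0) (b := 1) (by omega))

variable {Fil : ℕ → Ideal P} {K : Type*} [AddCommGroup K] [Module P K]

/-- **(B1')** the Rees module of a filtration with a weighted finite generating family is f.g. -/
theorem reesM_fg (h : MulFil Fil) {F : ℕ → Submodule P K} (hF : ModFil Fil F) {κ : Type*} [Fintype κ]
    (m : κ → ℕ) (v : κ → K) (hv : ∀ l, v l ∈ F (m l))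
    (hgen : ∀ n, ∀ z ∈ F n, ∃ c : κ → P, (∀ l, c l ∈ Fil (n - m l)) ∧ z = ∑ l, c l • v l) : (reesM h hF).FG := by
  classical
  let G : Finset (PolynomialModule P K) :=
    Finset.univ.biUnion fun l => (Finset.range (m l + 1)).image fun i => PolynomialModule.single P i (v l)
  have hG : ∀ l i, i ≤ m l → PolynomialModule.single P i (v l) ∈ Submodule.span (rees h) (G : Set (PolynomialModule P K)) := by
    intro l i hi
    refine Submodule.subset_span (Finset.mem_coe.2 (Finset.mem_biUnion.2 ⟨l, Finset.mem_univ _, ?_⟩))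
    exact Finset.mem_image.2 ⟨i, Finset.mem_range.2 (by omega), rfl⟩
  refine ⟨G, le_antisymm (Submodule.span_le.2 ?_) ?_⟩
  · intro g hg
    obtain ⟨l, -, hg⟩ := Finset.mem_biUnion.1 (Finset.mem_coe.1 hg)
    obtain ⟨i, hi, rfl⟩ := Finset.mem_image.1 hg
    intro n
    rw [PolynomialModule.coeff_single]
    by_cases hn : n = i
    · subst hn
      rw [Finsupp.single_eq_same]
      exact hF.anti (by have := Finset.mem_range.1 hi; omega) (hv l)
    · rw [Finsupp.single_eq_of_ne hn]
      exact zero_mem _
  · intro f hf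
    -- `single n z` for `z ∈ F n`
    have h1 : ∀ n, ∀ z ∈ F n, PolynomialModule.single P n z ∈ Submodule.span (rees h) (G : Set (PolynomialModule P K)) := by
      intro n z hz
      obtain ⟨c, hc, rfl⟩ := hgen n z hz
      have h2 : PolynomialModule.single P n (∑ l, c l • v l) = ∑ l, PolynomialModule.single P n (c l • v l) := by
        have := map_sum (PolynomialModule.lsingle P n (M := K)) (fun l => c l • v l) Finset.univ
        exact this
      rw [h2]
      refine sum_mem fun l _ => ?_
      by_cases hl : m l ≤ n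
      · have h3 : PolynomialModule.single P n (c l • v l) =
            (⟨monomial (n - m l) (c l), monomial_mem_rees h (hc l)⟩ : rees h) • PolynomialModule.single P (m l) (v l) := by
          change _ = (monomial (n - m l) (c l) : P[X]) • PolynomialModule.single P (m l) (v l)
          rw [PolynomialModule.monomial_smul_single, Nat.sub_add_cancel hl]
        rw [h3]
        exact Submodule.smul_mem _ _ (hG l _ le_rfl)
      · have h3 : PolynomialModule.single P n (c l • v l) =
            (⟨monomial 0 (c l), monomial_mem_rees h (by rw [h.zero]; trivial)⟩ : rees h) • PolynomialModule.single P n (v l) := by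
          change _ = (monomial 0 (c l) : P[X]) • PolynomialModule.single P n (v l)
          rw [PolynomialModule.monomial_smul_single, zero_add]
        rw [h3]
        exact Submodule.smul_mem _ _ (hG l _ (by omega))
    have h4 : f = ∑ n ∈ f.coeff.support, PolynomialModule.single P n (f.coeff n) := by
      apply PolynomialModule.coeff_injective
      rw [PolynomialModule.coeff_sum]
      simp only [PolynomialModule.coeff_single]
      exact (Finsupp.sum_single f.coeff).symm
    rw [h4]
    exact sum_mem fun n _ => h1 n _ (hf n)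

end

end Groth.Agent.ResProp.EF.K454
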