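import Groth.Agent.ResProp.EF.K396.Num
import Groth.Agent.ResProp.EF.K303.ConsDef

/-!
# (T5): the fields `dd, bdd, tor, top` of the kernel datum from embeddings `j n : (K n)⟨0⟩ → (I → X.K)`

`j n` is `R`-linear, injective, with range `{w | ∀ i, X.prz n (w i) = w i}`, and `j (n + 1) (d n x) = X.d ∘ j n x`.

* `eqv` : `(K n).M.obj ⟨0⟩ ≃ₗ[R] (I → X.deg n)`, `eqv_apply`, `eqv_d`.
* `dd_of_j`, `bdd_of_j`, `torGE_of_j`, `top_of_j` (`OpCpx` form), `t5` (`ALGOut` form: both statements).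
-/

set_option autoImplicit false
set_option linter.dupNamespace false

open CategoryTheory Opposite TensorProduct

noncomputable section

namespace Groth.Agent.ResProp.EF.K454

open K784.BC K784.PM K741.RP EF56 K294 Grp Arch K980 K396 PiTwist

universe u

section T5

variable {k : Type u} [CommRing k] {A : NFᵒᵖ ⥤ CommRingCat.{u}} [GRF k A]
  (X : OpCpx.{u} (A.obj (op ⟨0⟩))) {E : Gp k} {Pr : Type u} [CommRing Pr] [Algebra (A.obj (op ⟨0⟩)) Pr]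
  {K : ℤ → SObj k A E Pr} {d : ∀ n : ℤ, (K n).Hom (K (n + 1))} {I : Type}
  {j : ∀ n : ℤ, (K n).M.obj ⟨0⟩ →ₗ[A.obj (op ⟨0⟩)] (I → X.K)}

/-- the degree-`n` part, from `j n` -/
def eqv (hinj : ∀ n, Function.Injective (j n))
    (hr : ∀ (n : ℤ) (w : I → X.K), (∃ m, j n m = w) ↔ ∀ i, X.prz n (w i) = w i) (n : ℤ) :
    (K n).M.obj ⟨0⟩ ≃ₗ[A.obj (op ⟨0⟩)] (I → X.deg n) :=
  LinearEquiv.ofBijective
    (LinearMap.pi fun i =>
      { toFun := fun m => ⟨j n m i, (mem_deg X).2 ((hr n (j n m)).1 ⟨m, rfl⟩ i)⟩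
        map_add' := fun m m' => Subtype.ext (congrFun (map_add (j n) m m') i)
        map_smul' := fun r m => Subtype.ext (congrFun (map_smul (j n) r m) i) })
    ⟨fun m m' h => hinj n (funext fun i => congrArg Subtype.val (congrFun h i)),
      fun w => by
        obtain ⟨m, hm⟩ := (hr n (fun i => (w i : X.K))).2 fun i => (mem_deg X).1 (w i).2
        exact ⟨m, funext fun i => Subtype.ext (congrFun hm i)⟩⟩

theorem eqv_apply (hinj : ∀ n, Function.Injective (j n))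
    (hr : ∀ (n : ℤ) (w : I → X.K), (∃ m, j n m = w) ↔ ∀ i, X.prz n (w i) = w i) (n : ℤ) (m : (K n).M.obj ⟨0⟩) (i : I) :
    (eqv X hinj hr n m i : X.K) = j n m i := rfl

theorem eqv_d (hinj : ∀ n, Function.Injective (j n))
    (hr : ∀ (n : ℤ) (w : I → X.K), (∃ m, j n m = w) ↔ ∀ i, X.prz n (w i) = w i)
    (hd : ∀ (n : ℤ) (m : (K n).M.obj ⟨0⟩), j (n + 1) ((d n).f ⟨0⟩ m) = fun i => X.d (j n m i)) (n : ℤ)
    (m : (K n).M.obj ⟨0⟩) : eqv X hinj hr (n + 1) ((d n).f ⟨0⟩ m) = dI X I n (eqv X hinj hr n m) :=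
  funext fun i => Subtype.ext (congrFun (hd n m) i)

include X in
theorem dd_of_j (hinj : ∀ n, Function.Injective (j n))
    (hd : ∀ (n : ℤ) (m : (K n).M.obj ⟨0⟩), j (n + 1) ((d n).f ⟨0⟩ m) = fun i => X.d (j n m i)) (n : ℤ)
    (m : (K n).M.obj ⟨0⟩) : (d (n + 1)).f ⟨0⟩ ((d n).f ⟨0⟩ m) = 0 := by
  apply hinj (n + 1 + 1)
  rw [hd, hd, map_zero]
  exact funext fun i => X.d_d _

theorem bdd_of_j (hinj : ∀ n, Function.Injective (j n))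
    (hr : ∀ (n : ℤ) (w : I → X.K), (∃ m, j n m = w) ↔ ∀ i, X.prz n (w i) = w i) (n : ℤ) (hn : n < -X.e ∨ 0 < n) :
    Subsingleton ((K n).M.obj ⟨0⟩) := by
  have := subsingleton_deg X hn
  exact (eqv X hinj hr n).injective.subsingleton

theorem torGE_of_j (amp : X.Amp) [Finite I] (hinj : ∀ n, Function.Injective (j n))
    (hr : ∀ (n : ℤ) (w : I → X.K), (∃ m, j n m = w) ↔ ∀ i, X.prz n (w i) = w i)
    (hd : ∀ (n : ℤ) (m : (K n).M.obj ⟨0⟩), j (n + 1) ((d n).f ⟨0⟩ m) = fun i => X.d (j n m i))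
    (dd : ∀ (n : ℤ) (m : (K n).M.obj ⟨0⟩), (d (n + 1)).f ⟨0⟩ ((d n).f ⟨0⟩ m) = 0) :
    TorGE (-(X.e : ℤ)) (chartCx K d dd) := by
  classical
  have := Fintype.ofFinite I
  have heR : ∀ (n : ℤ) (m : I → X.deg n),
      (eqv X hinj hr (n + 1)).symm (dI X I n m) = (d n).f ⟨0⟩ ((eqv X hinj hr n).symm m) := by
    intro n m
    obtain ⟨m, rfl⟩ := (eqv X hinj hr n).surjective m
    rw [← eqv_d X hinj hr hd, LinearEquiv.symm_apply_apply, LinearEquiv.symm_apply_apply]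
  exact torGE_cx_congr (d' := fun n => (d n).f ⟨0⟩) (dd' := dd) (fun n => (eqv X hinj hr n).symm) heR (tor_pi amp I)

theorem top_of_j (amp : X.Amp) [Nonempty I] (hinj : ∀ n, Function.Injective (j n))
    (hr : ∀ (n : ℤ) (w : I → X.K), (∃ m, j n m = w) ↔ ∀ i, X.prz n (w i) = w i)
    (hd : ∀ (n : ℤ) (m : (K n).M.obj ⟨0⟩), j (n + 1) ((d n).f ⟨0⟩ m) = fun i => X.d (j n m i))
    (x : PrimeSpectrum (A.obj (op ⟨0⟩))) (y : PrimeSpectrum X.D)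
    (hy : PrimeSpectrum.comap (algebraMap (A.obj (op ⟨0⟩)) X.D) y = x) :
    ¬ Function.Surjective (LinearMap.lTensor x.asIdeal.ResidueField ((d (-1)).f ⟨0⟩)) := by
  classical
  exact not_surjective_congr ((d (-1)).f ⟨0⟩) (dI X I (-1)) (eqv X hinj hr (-1)).toLinearMap (eqv X hinj hr (-1 + 1))
    (fun m => eqv_d X hinj hr hd (-1) m) (top_pi amp I x y hy)

end T5

section Out

variable {k : Type u} [CommRing k] {A : NFᵒᵖ ⥤ CommRingCat.{u}} [GRF k A] {x : PrimeSpectrum (A.obj (op ⟨0⟩))}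
  {c : CoverDatum k A x} (o : ALGOut c)

/-- a point of `Spec X.D` over `x` -/
theorem exists_ptD : ∃ y : PrimeSpectrum o.X.D, PrimeSpectrum.comap (algebraMap (A.obj (op ⟨0⟩)) o.X.D) y = x := by
  obtain ⟨y, hy⟩ := c.pt
  exact ⟨PrimeSpectrum.comap (o.iD : o.X.D →+* c.Y.D.obj (op ⟨0⟩)) y, (comap_algEquiv o.iD y).trans hy⟩

variable {E : Gp k} {Pr : Type u} [CommRing Pr] [Algebra (A.obj (op ⟨0⟩)) Pr]

/-- **(T5)** -/
theorem t5 (K : ℤ → SObj k A E Pr) (d : ∀ n : ℤ, (K n).Hom (K (n + 1)))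
    (dd : ∀ (n : ℤ) (m : (K n).M.obj ⟨0⟩), (d (n + 1)).f ⟨0⟩ ((d n).f ⟨0⟩ m) = 0)
    {I : Type} [Finite I] [Nonempty I] (j : ∀ n : ℤ, (K n).M.obj ⟨0⟩ →ₗ[A.obj (op ⟨0⟩)] (I → o.X.K))
    (hinj : ∀ n, Function.Injective (j n))
    (hr : ∀ (n : ℤ) (w : I → o.X.K), (∃ m, j n m = w) ↔ ∀ i, o.X.prz n (w i) = w i)
    (hd : ∀ (n : ℤ) (m : (K n).M.obj ⟨0⟩), j (n + 1) ((d n).f ⟨0⟩ m) = fun i => o.X.d (j n m i)) :
    TorGE (-(o.X.e : ℤ)) (chartCx K d dd) ∧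
      ¬ Function.Surjective (LinearMap.lTensor x.asIdeal.ResidueField ((d (-1)).f ⟨0⟩)) := by
  obtain ⟨y, hy⟩ := exists_ptD o
  exact ⟨torGE_of_j o.X.toOpCpx o.amp hinj hr hd dd, top_of_j o.X.toOpCpx o.amp hinj hr hd x y hy⟩

/-- **(T5)**, with the range as a set -/
theorem t5' (K : ℤ → SObj k A E Pr) (d : ∀ n : ℤ, (K n).Hom (K (n + 1)))
    (dd : ∀ (n : ℤ) (m : (K n).M.obj ⟨0⟩), (d (n + 1)).f ⟨0⟩ ((d n).f ⟨0⟩ m) = 0)
    {I : Type} [Finite I] [Nonempty I] (j : ∀ n : ℤ, (K n).M.obj ⟨0⟩ →ₗ[A.obj (op ⟨0⟩)] (I → o.X.K))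
    (hinj : ∀ n, Function.Injective (j n))
    (hr : ∀ n : ℤ, Set.range (j n) = {w | ∀ i, o.X.prz n (w i) = w i})
    (hd : ∀ (n : ℤ) (m : (K n).M.obj ⟨0⟩), j (n + 1) ((d n).f ⟨0⟩ m) = fun i => o.X.d (j n m i)) :
    TorGE (-(o.X.e : ℤ)) (chartCx K d dd) ∧
      ¬ Function.Surjective (LinearMap.lTensor x.asIdeal.ResidueField ((d (-1)).f ⟨0⟩)) :=
  t5 o K d dd j hinj (fun n w => Set.ext_iff.1 (hr n) w) hd

/-- `bdd`, `ALGOut` form -/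
theorem t5_bdd (K : ℤ → SObj k A E Pr) {I : Type} (j : ∀ n : ℤ, (K n).M.obj ⟨0⟩ →ₗ[A.obj (op ⟨0⟩)] (I → o.X.K))
    (hinj : ∀ n, Function.Injective (j n))
    (hr : ∀ n : ℤ, Set.range (j n) = {w | ∀ i, o.X.prz n (w i) = w i}) (n : ℤ) (hn : n < -o.X.e ∨ 0 < n) :
    Subsingleton ((K n).M.obj ⟨0⟩) :=
  bdd_of_j o.X.toOpCpx hinj (fun n w => Set.ext_iff.1 (hr n) w) n hn

/-- `dd`, `ALGOut` form -/
theorem t5_dd (K : ℤ → SObj k A E Pr) (d : ∀ n : ℤ, (K n).Hom (K (n + 1)))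
    {I : Type} (j : ∀ n : ℤ, (K n).M.obj ⟨0⟩ →ₗ[A.obj (op ⟨0⟩)] (I → o.X.K))
    (hinj : ∀ n, Function.Injective (j n))
    (hd : ∀ (n : ℤ) (m : (K n).M.obj ⟨0⟩), j (n + 1) ((d n).f ⟨0⟩ m) = fun i => o.X.d (j n m i)) (n : ℤ)
    (m : (K n).M.obj ⟨0⟩) : (d (n + 1)).f ⟨0⟩ ((d n).f ⟨0⟩ m) = 0 :=
  dd_of_j o.X.toOpCpx hinj hd n m

end Out

end Groth.Agent.ResProp.EF.K454
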